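import Cfsg.Agent.Lib.FusionComp.CompNormal

/-!
# Components of a central product are components of a factor
-/

set_option autoImplicit false
set_option linter.unusedSectionVars false
set_option linter.style.haveILetI false

namespace Cfsg.Agent.FusionComp

open Cfsg Cfsg.FusionSystem Cfsg.Agent.FusionSys Cfsg.Agent.FusionSys.FocCent
  Cfsg.Agent.FusionSys.LayerCore Cfsg.Agent.FusionMeet Cfsg.Agent.FusionProd

variable {Ω : Type*} [Group Ω] {S T S₁ S₂ : Subgroup Ω} [Finite S] {p : ℕ} [hp : Fact p.Prime]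
variable {F : FusionSystem S}

/-- A factor is normal. -/
theorem factor_normal (hF : F.IsSaturated p) {F₁ : FusionSystem S₁} (hS : IsPGroup p S)
    (h₁ : F₁.IsSaturated p) (h₁F : F₁.IsSubsystemOf F) (hsup : S = S₁ ⊔ S₂)
    (hcomm : S₂ ≤ Subgroup.centralizer (S₁ : Set Ω))
    (helim : ∀ (P : Subgroup Ω), P ≤ S₁ → ∀ φ : P →* Ω, φ ∈ F.Hom P → φ ∈ F₁.Hom P)
    (hpair : ∀ α ∈ F₁.autGroup S₁, ∃ χ ∈ F.Hom S, (∀ (x : S₁) (hx : (x : Ω) ∈ S), χ ⟨x, hx⟩ = ((α x : S₁) : Ω)) ∧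
      ∀ (y : Ω) (hy : y ∈ S), y ∈ S₂ → χ ⟨y, hy⟩ = y) :
    F₁.IsNormalIn F p := by
  have hS₁ : S₁ ≤ S := hsup ▸ le_sup_left
  haveI : Finite S₁ := finite_of_le hS₁
  haveI : Finite ↥(S₁ ⊔ centralizerIn S S₁) := finite_of_le (S := S) (sup_le hS₁ (centralizerIn_le _ _))
  obtain ⟨-, -, -, -, hAI, -⟩ := weaklyNormal_self h₁
  refine ⟨⟨h₁, hF, h₁F, ⟨hS₁, fun R hR φ hφ x => hom_apply_mem F₁ (helim R hR φ hφ) x⟩, fun P hP φ hφ α hα =>
    hAI P hP φ hφ α ((equivHom_autGroup F₁ le_rfl).2 (helim _ le_rfl _ ((equivHom_autGroup F hS₁).1 hα))),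
    fun P hP φ hφ => ⟨1, Subgroup.one_mem _, φ, helim P hP φ hφ, fun _ _ => rfl⟩⟩, fun α hα => ?_⟩
  obtain ⟨χ, hχ, e1, e2⟩ := hpair α hα
  have hle : S₁ ⊔ centralizerIn S S₁ ≤ S := sup_le hS₁ (centralizerIn_le _ _)
  have hge : S ≤ S₁ ⊔ centralizerIn S S₁ := by
    intro s hs
    have hs' : s ∈ S₁ ⊔ S₂ := hsup ▸ hs
    exact (sup_le le_sup_left fun y hy =>
      Subgroup.mem_sup_right (Subgroup.mem_inf.2 ⟨hsup.ge (Subgroup.mem_sup_right hy), hcomm hy⟩) : S₁ ⊔ S₂ ≤ _) hs'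
  obtain ⟨β, hβ, hβe⟩ := exists_aut_of_invariant F (restrict_mem F hχ hle) fun x => hge (hom_apply_mem F hχ _)
  refine ⟨β, hβ, fun x => (hβe _).trans (e1 x _), fun c hc => ?_⟩
  have hn : S₁ ≤ Subgroup.normalizer (S₂ : Set Ω) := fun a ha => Subgroup.centralizer_le_normalizer _ fun b hb =>
    (Subgroup.mem_centralizer_iff.1 (hcomm hb) a ha).symm
  have hmem : (c : Ω) ∈ ((S₁ ⊔ S₂ : Subgroup Ω) : Set Ω) := hsup ▸ hle c.2
  rw [Subgroup.coe_mul_of_left_le_normalizer_right S₁ S₂ hn] at hmem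
  obtain ⟨a, ha, b, hb, e⟩ := hmem
  have e' : a * b = (c : Ω) := e
  have hbS : b ∈ S := hsup ▸ Subgroup.mem_sup_right hb
  have h2 : ((β c : ↥(S₁ ⊔ centralizerIn S S₁)) : Ω) = ((α ⟨a, ha⟩ : S₁) : Ω) * b := by
    rw [hβe, ← e1 ⟨a, ha⟩ (hS₁ ha), ← e2 b hbS hb, ← map_mul]
    exact congrArg χ (Subtype.ext e'.symm)
  have hac : a ∈ Subgroup.centralizer (S₁ : Set Ω) := by
    have := Subgroup.mul_mem _ hc.2 (Subgroup.inv_mem _ (hcomm hb))
    rwa [← e', mul_inv_cancel_right] at this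
  have hw : a⁻¹ * ((α ⟨a, ha⟩ : S₁) : Ω) ∈ S₁ := S₁.mul_mem (S₁.inv_mem ha) (α ⟨a, ha⟩).2
  rw [h2, ← e', mul_inv_rev, mul_assoc, ← mul_assoc a⁻¹, Subgroup.mem_centralizer_iff.1 (hcomm hb) _ hw,
    inv_mul_cancel_left]
  refine ⟨hw, Subgroup.mul_mem _ (Subgroup.inv_mem _ hac) (Subgroup.mem_centralizer_iff.2 fun s hs => ?_)⟩
  obtain ⟨t, ht⟩ := α.surjective ⟨s, hs⟩
  have h3 := congrArg (fun z : S₁ => ((α z : S₁) : Ω))
    (show t * ⟨a, ha⟩ = ⟨a, ha⟩ * t from Subtype.ext (Subgroup.mem_centralizer_iff.1 hac t t.2))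
  simp only [map_mul, Subgroup.coe_mul, ht] at h3
  exact h3

/-- A component is not abelian. -/
theorem component_not_central (hS : IsPGroup p S) {U : Subgroup Ω} {C : FusionSystem U}
    (hC : C.IsComponentIn F p) : ¬ U ≤ Subgroup.centralizer (U : Set Ω) := by
  intro hab
  have hUS : U ≤ S := FusionMeet.subnormal_le hC.1
  haveI : Finite U := finite_of_le hUS
  obtain ⟨hCs, hhyp, hsimp⟩ := id hC.2
  have hc := normal_central_of_quasisimple (hS.to_le hUS) hC.2 (isNormal_of_abelian (hS.to_le hUS) hCs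
    (stronglyClosed_self C) fun x hx y hy => (Subgroup.mem_centralizer_iff.1 (hab hy) x hx))
  have hU : U ≤ ⊥ := hhyp.ge.trans ((Subgroup.closure_le _).2 (by
    rintro _ ⟨P, α, x, hP, -, rfl⟩
    rw [show (((α : MulAut P) x : P) : Ω) = x from central_fix hc ((equivHom_autGroup C hP).1 α.2) x (hP x.2),
      inv_mul_cancel]
    exact Subgroup.one_mem _))
  set π := QuotientGroup.mk' ((C.center).subgroupOf U)
  obtain ⟨-, hne, -⟩ := hsimp _ (factorSystem_spec C (center_stronglyClosed C) π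
    (fun s => (QuotientGroup.eq_one_iff s).trans Subgroup.mem_subgroupOf)
    (MonoidHom.range_eq_top.2 (QuotientGroup.mk'_surjective _)))
  refine hne (eq_bot_iff.2 fun q _ => ?_)
  obtain ⟨u, rfl⟩ := QuotientGroup.mk'_surjective ((C.center).subgroupOf U) q
  rw [show u = 1 from Subtype.ext (Subgroup.mem_bot.1 (hU u.2)), map_one]
  exact Subgroup.one_mem _

/-- A component of a central product is a component of a factor. -/
theorem component_of_centralProduct (hS : IsPGroup p S) (hF : F.IsSaturated p) {F₁ : FusionSystem S₁}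
    {F₂ : FusionSystem S₂} (h₁ : F₁.IsSaturated p) (h₂ : F₂.IsSaturated p) (h₁F : F₁.IsSubsystemOf F)
    (h₂F : F₂.IsSubsystemOf F) (hc : IsCentralProductOf F₁ F₂ F) {C : FusionSystem T}
    (hC : C.IsComponentIn F p) : C.IsComponentIn F₁ p ∨ C.IsComponentIn F₂ p := by
  obtain ⟨D₀, hD₀, Z, θ, hZ, -, -, hθ₁, hθ₂, hfac⟩ := hc
  have hran := hfac.2.2.1
  have hspec := hfac.2.2.2
  have hS₁ : S₁ ≤ S := fun a ha => hran.le ⟨⟨(a, 1), ha, S₂.one_mem⟩, hθ₁ a _⟩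
  have hS₂ : S₂ ≤ S := fun b hb => hran.le ⟨⟨(1, b), S₁.one_mem, hb⟩, hθ₂ b _⟩
  have hθ : ∀ (a b : Ω) (hab : ((a, b) : Ω × Ω) ∈ S₁.prod S₂), θ ⟨(a, b), hab⟩ = a * b := fun a b hab => by
    rw [show (⟨(a, b), hab⟩ : ↥(S₁.prod S₂)) = ⟨(a, 1), hab.1, S₂.one_mem⟩ * ⟨(1, b), S₁.one_mem, hab.2⟩ from
      Subtype.ext (Prod.ext (mul_one a).symm (one_mul b).symm), map_mul]
    exact congrArg₂ (· * ·) (hθ₁ a _) (hθ₂ b _)
  have hcomm : S₂ ≤ Subgroup.centralizer (S₁ : Set Ω) := fun b hb => Subgroup.mem_centralizer_iff.2 fun a ha => by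
    have e : (⟨(a, 1), ha, S₂.one_mem⟩ : ↥(S₁.prod S₂)) * ⟨(1, b), S₁.one_mem, hb⟩ =
        ⟨(1, b), S₁.one_mem, hb⟩ * ⟨(a, 1), ha, S₂.one_mem⟩ := Subtype.ext (Prod.ext (by simp) (by simp))
    have h := congrArg θ e
    rw [map_mul, map_mul] at h
    exact (congrArg₂ (· * ·) (hθ₁ a _) (hθ₂ b _)).symm.trans (h.trans (congrArg₂ (· * ·) (hθ₂ b _) (hθ₁ a _)))
  have hsup : S = S₁ ⊔ S₂ := by
    refine le_antisymm (fun x hx => ?_) (sup_le hS₁ hS₂)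
    obtain ⟨⟨⟨a, b⟩, hab⟩, rfl⟩ := hran.ge hx
    rw [hθ]
    exact Subgroup.mul_mem _ (Subgroup.mem_sup_left hab.1) (Subgroup.mem_sup_right hab.2)
  haveI : Finite S₁ := finite_of_le hS₁
  haveI : Finite S₂ := finite_of_le hS₂
  haveI : Finite ↥(S₁.prod S₂) := Finite.of_equiv _ (Subgroup.prodEquiv S₁ S₂).symm.toEquiv
  have hP₀ : IsPGroup p ↥(S₁.prod S₂) := by
    intro u
    obtain ⟨i, hi⟩ := hS.to_le hS₁ ⟨_, u.2.1⟩
    obtain ⟨j, hj⟩ := hS.to_le hS₂ ⟨_, u.2.2⟩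
    have hi' : (u : Ω × Ω).1 ^ p ^ i = 1 := congrArg Subtype.val hi
    have hj' : (u : Ω × Ω).2 ^ p ^ j = 1 := congrArg Subtype.val hj
    refine ⟨i + j, Subtype.ext (Prod.ext ?_ ?_)⟩
    · show (u : Ω × Ω).1 ^ p ^ (i + j) = 1
      rw [pow_add, pow_mul, hi', one_pow]
    · show (u : Ω × Ω).2 ^ p ^ (i + j) = 1
      rw [pow_add, mul_comm, pow_mul, hj', one_pow]
  have hD₀s : D₀.IsSaturated p := product_saturated (hS.to_le hS₁) (hS.to_le hS₂) h₁ h₂ hD₀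
  have hZc : D₀.StronglyClosed Z :=
    isNormal_stronglyClosed (isCentral_isNormal (central_of_fix hP₀ hD₀s (hZ.trans (center_isCentral D₀).1)
      fun P φ hφ x hx => central_fix (center_isCentral D₀) hφ x (hZ hx)))
  -- pairs of maps
  have hpair : ∀ (f₁ : S₁ →* Ω) (f₂ : S₂ →* Ω), f₁ ∈ F₁.Hom S₁ → f₂ ∈ F₂.Hom S₂ →
      ∃ χ ∈ F.Hom S, ∀ (a b : Ω) (ha : a ∈ S₁) (hb : b ∈ S₂) (h : a * b ∈ S),
        χ ⟨a * b, h⟩ = f₁ ⟨a, ha⟩ * f₂ ⟨b, hb⟩ := by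
    intro f₁ f₂ hf₁ hf₂
    have hm₁ : (S₁.prod S₂).map (MonoidHom.fst Ω Ω) ≤ S₁ := by rintro _ ⟨u, hu, rfl⟩; exact hu.1
    have hm₂ : (S₁.prod S₂).map (MonoidHom.snd Ω Ω) ≤ S₂ := by rintro _ ⟨u, hu, rfl⟩; exact hu.2
    have hφ : pairMap hm₁ hm₂ f₁ f₂ ∈ D₀.Hom (S₁.prod S₂) := (hD₀ _ _).2
      ⟨le_rfl, _, restrict_mem F₁ hf₁ hm₁, _, restrict_mem F₂ hf₂ hm₂, fun _ _ _ => rfl⟩
    obtain ⟨φ', hφ', hPS, hφS, hm, he⟩ := exists_induced hP₀ hD₀s hZc hfac hφ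
    have hle : S ≤ imageAlong θ (S₁.prod S₂) := fun x hx => by
      obtain ⟨u, rfl⟩ := hran.ge hx
      exact mem_imageAlong.2 ⟨u, u.2, u.2, rfl⟩
    refine ⟨_, restrict_mem F hφ' hle, fun a b ha hb h => ?_⟩
    refine (apply_congr φ' (hθ a b ⟨ha, hb⟩).symm _ (hm ⟨(a, b), ha, hb⟩)).trans ((he ⟨(a, b), ha, hb⟩).trans ?_)
    exact hθ _ _ _
  -- projections of maps
  have hproj : ∀ (P : Subgroup Ω) (φ : P →* Ω), φ ∈ F.Hom P →
      (P ≤ S₁ → φ ∈ F₁.Hom P) ∧ (P ≤ S₂ → φ ∈ F₂.Hom P) := by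
    intro P φ hφ
    obtain ⟨-, ψ, hψ, hQS, hψS, hm, he⟩ := (hspec P φ).1 hφ
    obtain ⟨-, φ₁, h1, φ₂, h2, hpr⟩ := (hD₀ _ _).1 hψ
    constructor
    · intro hP
      have hmem : ∀ a : P, ((a : Ω), (1 : Ω)) ∈ preimageAlong θ P := fun a =>
        (mem_preimageAlong _ _ _).2 ⟨⟨hP a.2, S₂.one_mem⟩, (congrArg (· ∈ P) ((hθ _ _ _).trans (mul_one _))).mpr a.2⟩
      have hle : P ≤ (preimageAlong θ P).map (MonoidHom.fst Ω Ω) := fun a ha => ⟨_, hmem ⟨a, ha⟩, rfl⟩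
      refine hom_congr F₁ (restrict_mem F₁ h1 hle) fun a => ?_
      have h3 := he ⟨_, hmem a⟩
      have h4 := hpr ⟨_, hmem a⟩ ⟨_, hmem a, rfl⟩ ⟨_, hmem a, rfl⟩
      refine (apply_congr φ (show (a : Ω) = θ ⟨((a : Ω), (1 : Ω)), hQS (hmem a)⟩ from ((hθ _ _ _).trans (mul_one _)).symm) a.2
        (hm ⟨_, hmem a⟩)).trans (h3.trans ?_)
      refine (hθ _ _ _).trans ?_
      refine (congrArg (fun z : Ω × Ω => z.1 * z.2) h4).trans ?_
      show φ₁ _ * φ₂ _ = _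
      rw [show (⟨((a : Ω), (1 : Ω)).2, _⟩ : ↥((preimageAlong θ P).map (MonoidHom.snd Ω Ω))) = 1 from rfl,
        map_one, mul_one]
      rfl
    · intro hP
      have hmem : ∀ a : P, ((1 : Ω), (a : Ω)) ∈ preimageAlong θ P := fun a =>
        (mem_preimageAlong _ _ _).2 ⟨⟨S₁.one_mem, hP a.2⟩, (congrArg (· ∈ P) ((hθ _ _ _).trans (one_mul _))).mpr a.2⟩
      have hle : P ≤ (preimageAlong θ P).map (MonoidHom.snd Ω Ω) := fun a ha => ⟨_, hmem ⟨a, ha⟩, rfl⟩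
      refine hom_congr F₂ (restrict_mem F₂ h2 hle) fun a => ?_
      have h3 := he ⟨_, hmem a⟩
      have h4 := hpr ⟨_, hmem a⟩ ⟨_, hmem a, rfl⟩ ⟨_, hmem a, rfl⟩
      refine (apply_congr φ (show (a : Ω) = θ ⟨((1 : Ω), (a : Ω)), hQS (hmem a)⟩ from ((hθ _ _ _).trans (one_mul _)).symm) a.2
        (hm ⟨_, hmem a⟩)).trans (h3.trans ?_)
      refine (hθ _ _ _).trans ?_
      refine (congrArg (fun z : Ω × Ω => z.1 * z.2) h4).trans ?_
      show φ₁ _ * φ₂ _ = _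
      rw [show (⟨((1 : Ω), (a : Ω)).1, _⟩ : ↥((preimageAlong θ P).map (MonoidHom.fst Ω Ω))) = 1 from rfl,
        map_one, one_mul]
      rfl
  have hn₁ : F₁.IsNormalIn F p := factor_normal hF hS h₁ h₁F hsup hcomm (fun P hP φ hφ => (hproj P φ hφ).1 hP)
    fun α hα => by
      obtain ⟨χ, hχ, he⟩ := hpair _ _ ((equivHom_autGroup F₁ le_rfl).1 hα) (subtype_mem F₂ (le_refl S₂))
      refine ⟨χ, hχ, fun x hx => ?_, fun y hy hy₂ => ?_⟩
      · refine (apply_congr χ (mul_one (x : Ω)).symm hx (by rwa [mul_one])).trans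
          ((he x 1 x.2 S₂.one_mem _).trans ?_)
        exact mul_one _
      · refine (apply_congr χ (one_mul y).symm hy (by rwa [one_mul])).trans
          ((he 1 y S₁.one_mem hy₂ _).trans ?_)
        show ((α 1 : S₁) : Ω) * y = y
        rw [map_one]; exact one_mul y
  have hn₂ : F₂.IsNormalIn F p := factor_normal hF hS h₂ h₂F (hsup.trans (sup_comm _ _))
    (Subgroup.le_centralizer_iff.1 hcomm) (fun P hP φ hφ => (hproj P φ hφ).2 hP) fun α hα => by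
      obtain ⟨χ, hχ, he⟩ := hpair _ _ (subtype_mem F₁ (le_refl S₁)) ((equivHom_autGroup F₂ le_rfl).1 hα)
      refine ⟨χ, hχ, fun x hx => ?_, fun y hy hy₁ => ?_⟩
      · refine (apply_congr χ (one_mul (x : Ω)).symm hx (by rwa [one_mul])).trans
          ((he 1 x S₁.one_mem x.2 _).trans ?_)
        exact one_mul _
      · refine (apply_congr χ (mul_one y).symm hy (by rwa [mul_one])).trans
          ((he y 1 hy₁ S₂.one_mem _).trans ?_)
        show y * ((α 1 : S₂) : Ω) = y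
        rw [map_one]; exact mul_one y
  by_cases hT₁ : T ≤ S₁
  · exact Or.inl (component_in_normal hS hC hn₁ hT₁)
  by_cases hT₂ : T ≤ S₂
  · exact Or.inr (component_in_normal hS hC hn₂ hT₂)
  exfalso
  have a₁ := (component_le_goodSub hS hF hC hn₁ hT₁).trans (goodSub_le F F₁)
  have a₂ := (component_le_goodSub hS hF hC hn₂ hT₂).trans (goodSub_le F F₂)
  refine component_not_central hS hC fun x hx => Subgroup.mem_centralizer_iff.2 fun y hy => ?_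
  have h1 : S₁ ⊔ S₂ ≤ Subgroup.centralizer {x} := sup_le
    (fun s hs => Subgroup.mem_centralizer_singleton_iff.2 (Subgroup.mem_centralizer_iff.1 (a₁ hx).2 s hs))
    fun s hs => Subgroup.mem_centralizer_singleton_iff.2 (Subgroup.mem_centralizer_iff.1 (a₂ hx).2 s hs)
  exact Subgroup.mem_centralizer_singleton_iff.1 (h1 (hsup ▸ (a₁ hy).1))

end Cfsg.Agent.FusionComp
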