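import Cfsg.Agent.Lib.FusionComp.Commute
import Cfsg.Agent.Lib.Fusion.StableLimit
import Cfsg.Agent.Lib.Fusion.PPowerExist

/-!
# The hyperfocal subgroup of a normal subsystem centralizes a normal subsystem meeting it centrally
-/

set_option autoImplicit false
set_option linter.unusedSectionVars false
set_option linter.style.haveILetI false

namespace Cfsg.Agent.FusionComp

open Cfsg Cfsg.FusionSystem Cfsg.Agent.FusionSys Cfsg.Agent.FusionSys.FocCent
  Cfsg.Agent.FusionSys.LayerCore Cfsg.Agent.FusionMeet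

variable {Ω : Type*} [Group Ω] {S W R T U : Subgroup Ω}

/-- The maps preserving the displacements by `ψ`. -/
def dltSys {H : Subgroup Ω} (G : FusionSystem H) (ψ : MulAut H)
    (hd : ∀ x g : H, (g * x * g⁻¹)⁻¹ * ψ (g * x * g⁻¹) = x⁻¹ * ψ x) : FusionSystem H where
  Hom P := {φ | φ ∈ G.Hom P ∧ ∀ (x : P) (hx : (x : Ω) ∈ H) (hφx : φ x ∈ H),
    (⟨φ x, hφx⟩ : H)⁻¹ * ψ ⟨φ x, hφx⟩ = (⟨x, hx⟩ : H)⁻¹ * ψ ⟨x, hx⟩}
  le_of_mem h := G.le_of_mem h.1
  injective_of_mem h := G.injective_of_mem h.1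
  conj_mem hP hg := ⟨G.conj_mem hP hg, fun x hx _ => hd ⟨x, hx⟩ ⟨_, hg⟩⟩
  comp_mem h1 h2 h := ⟨G.comp_mem h1.1 h2.1 h, fun x hx hφx =>
    (h2.2 ⟨_, h x⟩ (hom_apply_mem G h1.1 x) hφx).trans (h1.2 x hx _)⟩
  inv_mem := by
    rintro P φ ⟨h, he⟩
    obtain ⟨θ, hθ, hθe⟩ := G.inv_mem h
    refine ⟨θ, ⟨hθ, ?_⟩, hθe⟩
    rintro ⟨_, x, rfl⟩ hx hθx
    have hxH : (x : Ω) ∈ H := hom_le G h x.2
    rw [show (⟨θ ⟨φ x, ⟨x, rfl⟩⟩, hθx⟩ : H) = ⟨x, hxH⟩ from Subtype.ext (hθe x)]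
    exact (he x hxH hx).symm

variable [Finite S] {p : ℕ} [hp : Fact p.Prime]

/-- An automorphism of order prime to `p` of the hyperfocal subgroup with central displacements is trivial. -/
theorem pprime_trivial (hS : IsPGroup p S) {F : FusionSystem S} {G : FusionSystem W}
    (hG : G.IsWeaklyNormalIn F p) {Z : Subgroup Ω} (hZ : G.IsCentral Z) {H : Subgroup Ω}
    (hH : G.hyperfocalSubgroup p = H) {ψ : MulAut H} (hψ : ψ ∈ F.autGroup H) (hco : (orderOf ψ).Coprime p)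
    (hdisp : ∀ x : H, (x : Ω)⁻¹ * ((ψ x : H) : Ω) ∈ Z) :
    ψ = 1 := by
  obtain ⟨hGs, -, hGF, hW, hAI, hfr⟩ := id hG
  have hWS := hW.1
  haveI : Finite W := finite_of_le hWS
  have hWp : IsPGroup p W := hS.to_le hWS
  have hHW : H ≤ W := hH ▸ hyperfocal_le G
  have hHc : G.StronglyClosed H := hH ▸ hyperfocal_stronglyClosed hWp hGs
  haveI : Finite H := finite_of_le hHW
  have hHp : IsPGroup p H := hWp.to_le hHW
  have hZW : Z ≤ Subgroup.centralizer (W : Set Ω) := (isCentral_le_center hZ).trans G.center_le_centralizer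
  have hzc : ∀ z ∈ Z, ∀ w ∈ W, w * z = z * w := fun z hz w hw => Subgroup.mem_centralizer_iff.1 (hZW hz) w hw
  let δ : H → H := fun x => x⁻¹ * ψ x
  have hδZ : ∀ x, ((δ x : H) : Ω) ∈ Z := hdisp
  have hδc : ∀ x y, y * δ x = δ x * y := fun x y => Subtype.ext (hzc _ (hδZ x) _ (hHW y.2))
  have hψe : ∀ x, ψ x = x * δ x := fun x => (mul_inv_cancel_left x (ψ x)).symm
  have hδm : ∀ x y, δ (x * y) = δ x * δ y := fun x y => by
    show (x * y)⁻¹ * ψ (x * y) = _
    rw [map_mul, hψe x, hψe y]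
    calc (x * y)⁻¹ * (x * δ x * (y * δ y)) = y⁻¹ * (δ x * y) * δ y := by group
      _ = _ := by rw [← hδc, inv_mul_cancel_left]
  have hδ1 : δ 1 = 1 := by simp [δ]
  have hδi : ∀ x, δ x⁻¹ = (δ x)⁻¹ := fun x => eq_inv_of_mul_eq_one_left (by rw [← hδm, inv_mul_cancel, hδ1])
  have hδconj : ∀ x g : H, δ (g * x * g⁻¹) = δ x := fun x g => by
    rw [hδm, hδm, hδi, hδc x (δ g), mul_inv_cancel_right]
  obtain ⟨E, hEs, hEi, -⟩ := exists_pPower hWp hGs hHW hH.le
  have hEG : E.IsSubsystemOf G := hEi.1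
  have hEH : E.hyperfocalSubgroup p = H := (hyperfocal_eq_of_pPower hWp hHc hEi).trans hH
  have hfixZ : ∀ (P : Subgroup Ω) (φ : P →* Ω), φ ∈ G.Hom P → ∀ x : P, (x : Ω) ∈ Z → φ x = x := by
    intro P φ hφ x hx
    obtain ⟨θ, -, h1, h2⟩ := isCentral_extend hZ hφ
    exact (h1 x x.2 (Subgroup.mem_sup_left x.2)).symm.trans (h2 x _ hx)
  have key : E ≤ dltSys E ψ hδconj := by
    refine alperin_ind hHp hEs fun P hP _ => ?_
    have hPH : P ≤ H := hP.elim (fun h => h.le) fun h => h.1.1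
    have hPW := hPH.trans hHW
    haveI : Finite P := finite_of_le hPH
    haveI : Finite (MulAut P) := Finite.of_injective _ DFunLike.coe_injective
    have hZP : Z ⊓ H ≤ P := hP.elim (fun h => h ▸ inf_le_right) fun h z hz =>
      h.1.2 P (isConj_refl E hPH) ⟨hz.2, Subgroup.centralizer_le (SetLike.coe_subset_coe.2 hPW) (hZW hz.1)⟩
    have hrad : E.IsRadical p P := hP.elim (fun h => h ▸ Cfsg.Agent.AlperinGroup.radical_top hHp hEs)
      (essential_radical hHp hEs)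
    have hfn : E.IsFullyNormalized P := by
      rcases hP with h | h
      · rw [h]
        exact ⟨le_rfl, fun Q _ => by
          haveI : Finite (normalizerIn H H) := finite_of_le (normalizerIn_le H H)
          exact Subgroup.card_le_of_le ((normalizerIn_le _ _).trans (le_normalizerIn le_rfl))⟩
      · exact h.2.1
    have hsyl := isSyl_of_fullyAutomized (fullyNormalized_imp hHp hEs hfn).2
    have hδP : ∀ y : P, δ ⟨y, hPH y.2⟩ = ⟨((δ ⟨y, hPH y.2⟩ : H) : Ω), hPH (hZP ⟨hδZ _, SetLike.coe_mem _⟩)⟩ :=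
      fun y => rfl
    have hψF := (equivHom_autGroup F (hHW.trans hWS)).1 hψ
    have hψP : ∀ y : P, equivHom ψ ⟨y, hPH y.2⟩ ∈ P := fun y => by
      show ((ψ ⟨y, hPH y.2⟩ : H) : Ω) ∈ P
      rw [hψe]
      exact P.mul_mem y.2 (hZP ⟨hδZ _, SetLike.coe_mem _⟩)
    obtain ⟨c, hc, hce⟩ := exists_aut_of_invariant F (restrict_mem F hψF hPH) hψP
    have hce' : ∀ y : P, ((c y : P) : Ω) = y * (δ ⟨y, hPH y.2⟩ : H) := fun y => (hce y).trans (by
      show ((ψ ⟨y, hPH y.2⟩ : H) : Ω) = _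
      rw [hψe]; rfl)
    -- automorphisms with central displacement are inner
    let K : Subgroup (MulAut P) :=
      { carrier := {b | b ∈ E.autGroup P ∧ ∀ y : P, (y : Ω)⁻¹ * ((b y : P) : Ω) ∈ Z}
        one_mem' := ⟨Subgroup.one_mem _, fun y => by simp⟩
        mul_mem' := fun {b b'} ⟨hb, mb⟩ ⟨hb', mb'⟩ => by
          refine ⟨Subgroup.mul_mem _ hb hb', fun y => ?_⟩
          have := Subgroup.mul_mem _ (mb' y) (mb (b' y))
          rwa [mul_assoc, mul_inv_cancel_left] at this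
        inv_mem' := fun {b} ⟨hb, mb⟩ => by
          refine ⟨Subgroup.inv_mem _ hb, fun y => ?_⟩
          have := Subgroup.inv_mem _ (mb (b⁻¹ y))
          rw [MulAut.apply_inv_self, mul_inv_rev, inv_inv] at this
          exact this }
    have hGfix : ∀ b ∈ G.autGroup P, ∀ z : P, (z : Ω) ∈ Z → b z = z := fun b hb z hz =>
      Subtype.ext (hfixZ P _ ((equivHom_autGroup G hPW).1 hb) z hz)
    have hEGP : E.autGroup P ≤ G.autGroup P := autGroup_mono hEG P
    have hKp : IsPGroup p K := by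
      rintro ⟨b, hb, mb⟩
      obtain ⟨k, hk⟩ := pElement_of_disp (hHp.to_le hPH) (inf_le_left : P ⊓ Z ≤ P) (δ := b)
        (fun y => hGfix b (hEGP hb) ⟨(y : Ω), y.2.1⟩ y.2.2)
        fun y => ⟨P.mul_mem (P.inv_mem y.2) (b y).2, mb y⟩
      exact ⟨k, Subtype.ext hk⟩
    have hinn : K ≤ Inn P := fun b hb => by
      have h1 : (⟨b, hb.1⟩ : E.autGroup P) ∈ pCore p (E.autGroup P) := by
        refine Cfsg.Agent.PBasic.le_pCore (N := K.subgroupOf (E.autGroup P))
          ⟨fun y ⟨hy, my⟩ g => ⟨Subgroup.mul_mem _ (Subgroup.mul_mem _ g.2 hy) (Subgroup.inv_mem _ g.2),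
            fun u => ?_⟩⟩ (isPGroup_subgroupOf hKp) hb
        set u₀ := (g : MulAut P)⁻¹ u
        have hu₀ : (g : MulAut P) u₀ = u := MulAut.apply_inv_self _ _ _
        have h2 : (g : MulAut P) (u₀⁻¹ * (y : MulAut P) u₀) = u₀⁻¹ * (y : MulAut P) u₀ :=
          hGfix _ (hEGP g.2) _ (by rw [Subgroup.coe_mul, Subgroup.coe_inv]; exact my u₀)
        rw [map_mul, map_inv, hu₀] at h2
        have h3 := congrArg Subtype.val h2
        simp only [Subgroup.coe_mul, Subgroup.coe_inv] at h3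
        show (u : Ω)⁻¹ * (((g : MulAut P) ((y : MulAut P) u₀) : P) : Ω) ∈ Z
        rw [h3]
        exact my u₀
      exact hrad.2.le ⟨_, h1, rfl⟩
    -- the coprime automorphisms preserve the displacements
    set A := E.autGroup P
    set A' := (dltSys E ψ hδconj).autGroup P
    obtain ⟨Sy, hSy⟩ := hsyl.toSylow
    have htop : (Sy : Subgroup A) ⊔ Cfsg.pResidual p A ≤ A'.subgroupOf A := by
      refine sup_le (fun v hv => (autInducedBy_le_autGroup _ hPH) (by rw [hSy] at hv; exact hv))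
        ((Subgroup.closure_le _).2 fun a ha => ?_)
      refine (equivHom_autGroup _ hPH).2 ⟨(equivHom_autGroup E hPH).1 a.2, fun x hx hax => ?_⟩
      show δ ⟨((a : MulAut P) x : P), hax⟩ = δ ⟨x, hx⟩
      have haG : (a : MulAut P) ∈ G.autGroup P := hEGP a.2
      have ha'G : MulAut.congr c (a : MulAut P) ∈ G.autGroup P := congr_mem_of_frattini hAI hPW c
        (hfr P hPW _ ((equivHom_autGroup F (hPW.trans hWS)).1 hc)) haG
      have ha' : MulAut.congr c (a : MulAut P) ∈ E.autGroup P := hEi.2.2 P hPH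
        ⟨⟨_, ha'G⟩, Subgroup.subset_closure (by
          show (orderOf (⟨_, ha'G⟩ : G.autGroup P)).Coprime p
          rw [← Subgroup.orderOf_coe, MulEquiv.orderOf_eq, Subgroup.orderOf_coe]
          exact ha), rfl⟩
      set b := MulAut.congr c (a : MulAut P) * (a : MulAut P)⁻¹
      -- the explicit formula
      set v : P := (a : MulAut P) x
      have hdv : ∀ u : P, MulAut.congr c (a : MulAut P) (c u) = c ((a : MulAut P) u) := fun u => by
        rw [congr_apply, c.symm_apply_apply]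
      set dx : P := ⟨(δ ⟨x, hx⟩ : H), hZP ⟨hδZ _, SetLike.coe_mem _⟩⟩
      have hcx : c x = x * dx := Subtype.ext (hce' x)
      have hbv : ((b v : P) : Ω) = v * ((δ ⟨v, hax⟩ * (δ ⟨x, hx⟩)⁻¹ : H) : Ω) := by
        have e1 := hdv x
        rw [hcx, map_mul, hGfix _ ha'G dx (hδZ _)] at e1
        have e2 : b v = MulAut.congr c (a : MulAut P) x := by
          show MulAut.congr c (a : MulAut P) ((a : MulAut P)⁻¹ v) = _
          rw [MulAut.inv_apply_self]
        rw [e2, eq_mul_inv_of_mul_eq e1]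
        simp only [Subgroup.coe_mul, Subgroup.coe_inv]
        rw [hce', mul_assoc]
      have hbK : b ∈ K := by
        refine ⟨Subgroup.mul_mem _ ha' (Subgroup.inv_mem _ a.2), fun y => ?_⟩
        set u := (a : MulAut P)⁻¹ y
        have hu : (a : MulAut P) u = y := MulAut.apply_inv_self _ _ _
        set du : P := ⟨(δ ⟨u, hPH u.2⟩ : H), hZP ⟨hδZ _, SetLike.coe_mem _⟩⟩
        have e1 := hdv u
        rw [show c u = u * du from Subtype.ext (hce' u), map_mul, hGfix _ ha'G du (hδZ _), hu] at e1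
        show (y : Ω)⁻¹ * ((MulAut.congr c (a : MulAut P) u : P) : Ω) ∈ Z
        rw [eq_mul_inv_of_mul_eq e1]
        simp only [Subgroup.coe_mul, Subgroup.coe_inv]
        rw [hce', mul_assoc, inv_mul_cancel_left]
        exact Z.mul_mem (hδZ _) (Z.inv_mem (hδZ _))
      have hbI := hinn hbK
      rw [inn_eq_autInducedBy_self] at hbI
      obtain ⟨y, hy, hye⟩ := (mem_autInducedBy_iff _).1 hbI
      set v' : H := ⟨v, hax⟩
      set y' : H := ⟨y, hPH hy⟩
      have hd : δ v' * (δ ⟨x, hx⟩)⁻¹ = v'⁻¹ * (y' * v' * y'⁻¹) := by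
        refine Subtype.ext ?_
        simp only [Subgroup.coe_mul, Subgroup.coe_inv] at hbv ⊢
        show _ = (v : Ω)⁻¹ * (y * v * y⁻¹)
        rw [← hye v, hbv, inv_mul_cancel_left]
      have hd1 : δ (δ v' * (δ ⟨x, hx⟩)⁻¹) = 1 := by
        rw [hd, hδm, hδconj, hδi, inv_mul_cancel]
      have hm : δ v' * (δ ⟨x, hx⟩)⁻¹ = δ (v' * (⟨x, hx⟩ : H)⁻¹) := by rw [hδm, hδi]
      rw [hm] at hd1
      have hψm : ψ (δ (v' * (⟨x, hx⟩ : H)⁻¹)) = δ (v' * (⟨x, hx⟩ : H)⁻¹) := by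
        rw [hψe, hd1, mul_one]
      have := fix_of_step hHp hco (y := v' * (⟨x, hx⟩ : H)⁻¹) hψm
      have h0 : δ (v' * (⟨x, hx⟩ : H)⁻¹) = 1 := by
        show _ * ψ _ = 1
        rw [this, inv_mul_cancel]
      rw [hδm, hδi, mul_inv_eq_one] at h0
      exact h0
    rw [Cfsg.Agent.PBasic.sylow_sup_pResidual] at htop
    exact fun α hα => htop (Subgroup.mem_top (⟨α, hα⟩ : A))
  -- hence it fixes the generators
  have hfix : H ≤ (MonoidHom.eqLocus ψ.toMonoidHom (MonoidHom.id H)).map H.subtype := by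
    refine hEH.ge.trans ((Subgroup.closure_le _).2 ?_)
    rintro _ ⟨P, a, x, hP, -, rfl⟩
    have h1 := (key P ((equivHom_autGroup E hP).1 a.2)).2 x (hP x.2) (hP ((a : MulAut P) x).2)
    refine ⟨(⟨x, hP x.2⟩ : H)⁻¹ * ⟨((a : MulAut P) x : P), hP ((a : MulAut P) x).2⟩, ?_, rfl⟩
    show ψ _ = _
    rw [hψe, hδm, hδi]
    change _ * ((δ ⟨x, hP x.2⟩)⁻¹ * δ _) = _
    rw [show δ ⟨((a : MulAut P) x : P), hP ((a : MulAut P) x).2⟩ = δ ⟨x, hP x.2⟩ from h1, inv_mul_cancel, mul_one]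
    rfl
  refine MulEquiv.ext fun x => ?_
  obtain ⟨y, hy, hye⟩ := hfix x.2
  rw [show x = y from Subtype.ext hye.symm]
  exact hy

end Cfsg.Agent.FusionComp
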