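import Cfsg.Agent.Lib.FusionComp.Centralize
import Cfsg.Agent.Lib.Fusion.CentralizerGood

/-!
# A normal subsystem centralized by the hyperfocal subgroup of another
-/

set_option autoImplicit false
set_option linter.unusedSectionVars false
set_option linter.style.haveILetI false

namespace Cfsg.Agent.FusionComp

open Cfsg Cfsg.FusionSystem Cfsg.Agent.FusionSys Cfsg.Agent.FusionSys.FocCent
  Cfsg.Agent.FusionSys.LayerCore

variable {Ω : Type*} [Group Ω] {S T U : Subgroup Ω} [Finite S] {p : ℕ} [hp : Fact p.Prime]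

/-- A lift of order prime to `p` fixes the commuting subgroup. -/
theorem lift_fixes' (hS : IsPGroup p S) {F : FusionSystem S} {E : FusionSystem T} (hT : F.StronglyClosed T)
    (hU : F.StronglyClosed U) (hψ0 : ∀ ψ : MulAut U, ψ ∈ F.autGroup U → (orderOf ψ).Coprime p →
      (∀ x : U, (x : Ω)⁻¹ * ((ψ x : U) : Ω) ∈ T ⊓ U) → ψ = 1)
    {R R' : Subgroup Ω} (hRT : R ≤ T) (hZR : T ⊓ U ≤ R) (hUN : U ≤ normalizerIn S R)
    (hUC : U ≤ centralizerIn S R)
    {φ : ↥(normalizerIn S R) →* Ω} (hφ : φ ∈ F.Hom (normalizerIn S R))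
    (hφR : (R.subgroupOf (normalizerIn S R)).map φ = R')
    (e : R ≃* R') (he : ∀ (r : R) (hr : (r : Ω) ∈ normalizerIn S R), ((e r : R') : Ω) = φ ⟨r, hr⟩)
    {α : MulAut R} (hα : α ∈ E.autGroup R) (hco : (orderOf α).Coprime p)
    {h : MulAut (rc S R')} (hh : IsLift F R' h) (hr : Rel (le_rc R') h (MulAut.congr e α)) :
    equivHom α ∈ F.centralizerHom U R := by
  have hRS := hRT.trans hT.1
  have hRN : R ≤ normalizerIn S R := le_normalizerIn hRS
  have hres := extend_restrict_range hRN hφR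
  have hR'S : R' ≤ S := by
    rintro _ hx
    obtain ⟨x, rfl⟩ := hres.ge hx
    exact hom_apply_mem F hφ _
  haveI := finite_of_le hRS
  haveI := finite_of_le hR'S
  haveI := finite_of_le (rc_le (S := S) hR'S)
  haveI : Finite T := finite_of_le hT.1
  have hco' : (orderOf (MulAut.congr e α)).Coprime p := by
    rwa [MulEquiv.orderOf_eq]
  obtain ⟨n, hn, hne⟩ := exists_pprime_exp p h (MulAut.congr e α) hco'
  have hrn : Rel (le_rc R') (h ^ n) (MulAut.congr e α) := by rw [← hne]; exact hr.pow n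
  have hhn : IsLift F R' (h ^ n) :=
    Subgroup.pow_mem (liftGroup F hR'S) (show h ∈ liftGroup F hR'S from hh) n
  -- the image of the commuting subgroup
  have hUimg : ∀ (u : Ω) (hu : u ∈ U),
      φ ⟨u, hUN hu⟩ ∈ U ∧ φ ⟨u, hUN hu⟩ ∈ centralizerIn S R' := fun u hu =>
    ⟨stronglyClosed_apply_mem hU hφ _ hu, hom_apply_mem F hφ _,
      apply_mem_centralizer φ hRN hres _ (hUC hu).2⟩
  have hUle : U ≤ rc S R' := fun z hz => by
    obtain ⟨u, hu, hue⟩ := exists_preimage_stronglyClosed hU hφ hUN hz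
    exact hue ▸ cent_le_rc R' (hUimg u hu).2
  have hhm := (equivHom_autGroup F (rc_le hR'S)).1 hhn.1
  obtain ⟨ψ, hψm, hψr⟩ := exists_rel F hUle (rc_le hR'S) hhn.1
    fun u hu => stronglyClosed_apply_mem hU hhm u hu
  have hψ1 : ψ = 1 := hψ0 ψ hψm (Nat.Coprime.coprime_dvd_left (orderOf_dvd_of_pow_eq_one (by
      have := hψr.pow (orderOf (h ^ n))
      rw [pow_orderOf_eq_one] at this
      exact this.eq_one)) hn) fun z => ⟨by
    obtain ⟨u, hu, hue⟩ := exists_preimage_stronglyClosed hU hφ hUN z.2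
    have hw := hhn.2.2 (Subgroup.inclusion hUle z) (hue ▸ (hUimg u hu).2)
    rw [hψr z] at hw
    change (z : Ω)⁻¹ * ((ψ z : U) : Ω) ∈ zc R' at hw
    obtain ⟨x, hx⟩ := hres.ge hw.1
    exact hx ▸ stronglyClosed_apply_mem hT (restrict_mem F hφ hRN) x (hRT x.2),
    U.mul_mem (U.inv_mem z.2) (ψ z).2⟩
  have hfix : ∀ (u : Ω) (hu : u ∈ U),
      (h ^ n) ⟨φ ⟨u, hUN hu⟩, cent_le_rc R' (hUimg u hu).2⟩ = ⟨φ ⟨u, hUN hu⟩, cent_le_rc R' (hUimg u hu).2⟩ := by
    intro u hu
    refine Subtype.ext ?_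
    have := hψr.apply ⟨φ ⟨u, hUN hu⟩, (hUimg u hu).1⟩
    rw [hψ1, MulAut.one_apply] at this
    exact this
  -- pull back
  have hM : R ⊔ U ≤ normalizerIn S R := sup_le hRN hUN
  have hv : ∀ x : ↥(R ⊔ U), φ.comp (Subgroup.inclusion hM) x ∈ rc S R' := apply_mem_of_sup _
    (fun x => le_rc R' ((he x (hRN x.2)) ▸ (e x).2))
    (fun u => cent_le_rc R' (hUimg u u.2).2)
  obtain ⟨σ, hσ, hσe⟩ := comp_hom_mem F (restrict_mem F hφ hM)
    ((equivHom_autGroup F (rc_le hR'S)).1 hhn.1) hv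
  have hσR : ∀ r : R, σ (Subgroup.inclusion le_sup_left r) =
      φ.comp (Subgroup.inclusion hM) (Subgroup.inclusion le_sup_left (α r)) := by
    intro r
    rw [hσe]
    show (((h ^ n) ⟨φ ⟨r, _⟩, _⟩ : rc S R') : Ω) = φ ⟨(α r : R), _⟩
    have h1 := hrn.apply (e r)
    rw [congr_apply, e.symm_apply_apply, he _ (hRN (α r).2)] at h1
    refine Eq.trans ?_ h1
    exact congrArg (fun z : rc S R' => (((h ^ n) z : rc S R') : Ω)) (Subtype.ext (he r (hRN r.2)).symm)
  have hσU : ∀ u : U, σ (Subgroup.inclusion le_sup_right u) =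
      φ.comp (Subgroup.inclusion hM) (Subgroup.inclusion le_sup_right u) := by
    intro u
    rw [hσe]
    exact congrArg Subtype.val (hfix u u.2)
  obtain ⟨χ, hχ, -, hχ1, -⟩ := exists_inv F (restrict_mem F hφ hM)
  obtain ⟨ψ, hψ, hψe⟩ := comp_hom_mem F hσ hχ (apply_mem_of_sup σ
    (fun r => ⟨_, (hσR r).symm⟩) (fun u => ⟨_, (hσU u).symm⟩))
  have hψR : ∀ r : R, ψ (Subgroup.inclusion le_sup_left r) = ((α r : R) : Ω) := fun r =>
    (hψe _).trans ((apply_congr χ (hσR r) _ ⟨_, rfl⟩).trans (hχ1 _ ⟨_, rfl⟩))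
  have hψU : ∀ u : U, ψ (Subgroup.inclusion le_sup_right u) = (u : Ω) := fun u =>
    (hψe _).trans ((apply_congr χ (hσU u) _ ⟨_, rfl⟩).trans (hχ1 _ ⟨_, rfl⟩))
  refine ⟨hom_congr F (restrict_mem F hψ le_sup_left) fun r => (hψR r).symm, fun x hx => ⟨hRS hx, ?_⟩,
    fun x => ⟨hRS (α x).2, ?_⟩, ψ, hψ, hψR, hψU⟩
  · exact Subgroup.mem_centralizer_iff.2 fun u hu => (Subgroup.mem_centralizer_iff.1 (hUC hu).2 x hx).symm
  · exact Subgroup.mem_centralizer_iff.2 fun u hu =>
      (Subgroup.mem_centralizer_iff.1 (hUC hu).2 _ (α x).2).symm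

/-- `E` centralizes every commuting strongly closed subgroup meeting it in its centre. -/
theorem cross_spec' (hS : IsPGroup p S) {F : FusionSystem S} (hF : F.IsSaturated p) {E : FusionSystem T}
    (hE : E.IsNormalIn F p) (hU : F.StronglyClosed U) (hc : U ≤ Subgroup.centralizer (T : Set Ω))
    (hψ0 : ∀ ψ : MulAut U, ψ ∈ F.autGroup U → (orderOf ψ).Coprime p →
      (∀ x : U, (x : Ω)⁻¹ * ((ψ x : U) : Ω) ∈ T ⊓ U) → ψ = 1) (Q : Subgroup Ω) : E.Hom Q ⊆ F.centralizerHom U Q := by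
  obtain ⟨⟨hEs, -, hEinv⟩, hext⟩ := hE
  obtain ⟨hEF, hTc, -, -⟩ := id hEinv
  have hTS := hTc.1
  haveI : Finite T := finite_of_le hTS
  have hTp : IsPGroup p T := hS.to_le hTS
  have hTU : T ≤ centralizerIn S U := fun t ht => ⟨hTS ht,
    Subgroup.mem_centralizer_iff.2 fun u hu => (Subgroup.mem_centralizer_iff.1 (hc hu) t ht).symm⟩
  suffices key : E ≤ fixSub E F hU.1 hTU from fun φ hφ => (key Q hφ).2
  refine alperin_ind hTp hEs fun R hR ih => ?_
  have hRT : R ≤ T := hR.elim (fun h => h.le) fun h => h.1.1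
  have hRS := hRT.trans hTS
  haveI := finite_of_le hRS
  have hUC : U ≤ centralizerIn S R := fun u hu => ⟨hU.1 hu, Subgroup.centralizer_le hRT (hc hu)⟩
  have hUN := hUC.trans (centralizerIn_le_normalizerIn S R)
  have hZR : T ⊓ U ≤ R := hR.elim (fun h => h ▸ inf_le_left) fun h x hx =>
    h.1.2 R (isConj_refl E hRT) ⟨hx.1, (hUC hx.2).2⟩
  have hfn : E.IsFullyNormalized R := by
    rcases hR with h | h
    · rw [h]
      exact ⟨le_rfl, fun P _ => by
        haveI : Finite (normalizerIn T T) := finite_of_le ((normalizerIn_le T T).trans hTS)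
        exact Subgroup.card_le_of_le ((normalizerIn_le _ _).trans (le_normalizerIn le_rfl))⟩
    · exact h.2.1
  have hsyl := isSyl_of_fullyAutomized (fullyNormalized_imp hTp hEs hfn).2
  have hRN := le_normalizerIn (S := S) hRS
  obtain ⟨R', φ, hφ, hφR, hfc, e, he, hRc, hspec⟩ :
      ∃ (R' : Subgroup Ω) (φ : ↥(normalizerIn S R) →* Ω), φ ∈ F.Hom (normalizerIn S R) ∧
        (R.subgroupOf (normalizerIn S R)).map φ = R' ∧ F.IsFullyCentralized R' ∧
        ∃ e : R ≃* R', (∀ (r : R) (hr : (r : Ω) ∈ normalizerIn S R), ((e r : R') : Ω) = φ ⟨r, hr⟩) ∧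
          T ⊓ Subgroup.centralizer (R' : Set Ω) ≤ R' ∧
          (R = T → ∀ α ∈ E.autGroup R, ∃ h, IsLift F R' h ∧ Rel (le_rc R') h (MulAut.congr e α)) := by
    rcases hR with h | hess
    · subst h
      have hwc : F.WeaklyClosed R := stronglyClosed_weaklyClosed hTc
      refine ⟨R, (normalizerIn S R).subtype, subtype_mem F (normalizerIn_le S R),
        by rw [Subgroup.subgroupOf_map_subtype, inf_of_le_left hRN],
        ⟨hTS, fun X ⟨θ, hθ, hr⟩ => by rw [← hr, hwc.2 θ hθ]⟩,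
        MulEquiv.refl R, fun r hr => rfl, inf_le_left, fun _ α hα => ?_⟩
      obtain ⟨β, hβ, hβ1, hβ2⟩ := hext α hα
      refine ⟨β, ⟨hβ, fun x hx => ?_, fun x hx => hβ2 x hx⟩, fun r => Subtype.ext (hβ1 r)⟩
      have := hβ1 ⟨x, hx⟩
      rw [show x = Subgroup.inclusion le_sup_left (⟨x, hx⟩ : R) from Subtype.ext rfl]
      exact this ▸ (α _).2
    · obtain ⟨R', hconj, hR'⟩ := exists_fullyNormalized F hRS
      obtain ⟨φ, hφ, -, hφR⟩ := exists_normalizer_map_fullyNormalized hS hF hR' hconj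
      have hres := extend_restrict_range hRN hφR
      exact ⟨R', φ, hφ, hφR, (fullyNormalized_imp hS hF hR').1,
        mapEquiv F (restrict_mem F hφ hRN) hres, fun r hr => rfl,
        (centric_of_conj hEinv hess.1 hconj).2 R'
          (isConj_refl E (isConj_le_stronglyClosed hTc hRT hconj)),
        fun h => absurd h (essential_lt hTp hEs hess).ne⟩
  obtain ⟨L, hL, hmem, hLn, hV⟩ := exists_liftable hS hF hEinv hRT hφ hφR hfc hRc e he
  set A := E.autGroup R
  set A' := (fixSub E F hU.1 hTU).autGroup R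
  have hVA' : autInducedBy T R ≤ A' := autInducedBy_le_autGroup _ hRT
  have hLA' : ∀ α ∈ L, α ∈ A' := by
    have hsylL : IsSyl p (autInducedBy T R) L := ⟨fun v hv => (hV v hv).1, hsyl.2.1, fun hd =>
      hsyl.2.2 (hd.trans (Dvd.intro _ (Subgroup.relIndex_mul_relIndex _ L _ (fun v hv => (hV v hv).1)
        fun α hα => (hL α hα).1)))⟩
    haveI : Finite L := inferInstance
    obtain ⟨Sy, hSy⟩ := hsylL.toSylow
    have htop : (Sy : Subgroup L) ⊔ Cfsg.pResidual p L ≤ A'.subgroupOf L := by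
      refine sup_le (fun v hv => hVA' (by rw [hSy] at hv; exact hv))
        ((Subgroup.closure_le _).2 fun a ha => ?_)
      obtain ⟨haE, k, hk, hka⟩ := hL a a.2
      exact (equivHom_autGroup _ hRT).2 ⟨(equivHom_autGroup E hRT).1 haE, lift_fixes' hS hTc hU hψ0 hRT hZR hUN hUC
        hφ hφR e he haE (by rw [Subgroup.coe_subtype, Subgroup.orderOf_coe]; exact ha) hk hka⟩
    rw [Cfsg.Agent.PBasic.sylow_sup_pResidual] at htop
    exact fun α hα => htop (Subgroup.mem_top (⟨α, hα⟩ : L))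
  rcases eq_or_lt_of_le hRT with hRT' | hRlt
  · exact fun α hα => hLA' α (hmem α hα (hspec hRT' α hα))
  · haveI : (L.subgroupOf A).Normal := ⟨fun l hl a => hLn a (autGroup_mono hEF R a.2) l hl⟩
    obtain ⟨Sy, hSy⟩ := hsyl.toSylow
    have htop := Sylow.normalizer_sup_eq_top' (N := L.subgroupOf A) Sy
      (by rw [hSy]; exact fun v hv => (hV v hv).1)
    suffices A'.subgroupOf A = ⊤ from fun α hα => (this.ge (Subgroup.mem_top (⟨α, hα⟩ : A)) : _)
    rw [← top_le_iff, ← htop]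
    refine sup_le (fun n hn => ?_) fun l hl => hLA' _ hl
    have hnE := (equivHom_autGroup E hRT).1 n.2
    obtain ⟨ψ, hψ, hag⟩ := (fullyNormalized_receptive hTp hEs hfn).2 R _ hnE
      (equivHom_range (n : MulAut R))
    have hNext : normalizerIn T R ≤ extender T R (equivHom (n : MulAut R)) := by
      intro g hg
      obtain ⟨a, ha, hae⟩ := exists_conjAut (P := R) hg.1 hg.2
      have h1 := (Subgroup.mem_normalizer_iff.1 hn (⟨a, hsyl.1 ha⟩ : A)).1 (by
        rw [hSy]; exact ha)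
      rw [hSy, Subgroup.mem_subgroupOf] at h1
      obtain ⟨k, hk, hke⟩ := (mem_autInducedBy_iff _).1 h1
      refine Subgroup.subset_closure ⟨hg.1, hg.2, k, hk, fun x hx => ?_⟩
      have h2 := hke ((n : MulAut R) x)
      simp only [Subgroup.coe_mul, Subgroup.coe_inv, MulAut.mul_apply] at h2
      rw [show (n : MulAut R)⁻¹ ((n : MulAut R) x) = x from (n : MulAut R).symm_apply_apply x] at h2
      refine Eq.trans ?_ h2
      show (((n : MulAut R) ⟨_, hx⟩ : R) : Ω) = _
      rw [show (⟨g * (x : Ω) * g⁻¹, hx⟩ : R) = a x from Subtype.ext (hae x).symm]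
    have hlt : R < normalizerIn T R := lt_normalizerIn hTp hRlt
    have hmem' := ih _ hlt (restrict_mem E hψ hNext)
    refine (equivHom_autGroup _ hRT).2 (hom_congr _ (restrict_mem (fixSub E F hU.1 hTU) hmem' hlt.le) fun x => ?_)
    exact (hag x x.2 (hNext (hlt.le x.2))).symm

/-- A normal subsystem is centralized by the hyperfocal subgroup of another one meeting it centrally. -/
theorem hyperfocal_le_goodSub (hS : IsPGroup p S) {F : FusionSystem S} (hF : F.IsSaturated p)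
    {M : FusionSystem T} (hM : M.IsNormalIn F p) {W : Subgroup Ω} {G : FusionSystem W}
    (hG : G.IsNormalIn F p) (hZ : G.IsCentral (T ⊓ W)) : G.hyperfocalSubgroup p ≤ goodSub F M := by
  have hT : F.StronglyClosed T := hM.1.2.2.2.1
  have hH : F.StronglyClosed (G.hyperfocalSubgroup p) := StableLimit.hyperfocal_closed hS hG.1
  have hc := hyperfocal_commutes hS hF hG hT hZ
  have hY : G.hyperfocalSubgroup p ≤ centralizerIn S T := fun y hy => ⟨hH.1 hy, hc hy⟩
  exact fun y hy => Subgroup.subset_closure (good_of_le hY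
    (fun Q => cross_spec' hS hF hM hH hc (fun ψ hψ hco hd => pprime_trivial hS hG.1 hZ rfl hψ hco
      fun x => ⟨(hd x).1, hyperfocal_le G (hd x).2⟩) Q) hy)

end Cfsg.Agent.FusionComp
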