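import Cfsg.Agent.Lib.FusionProduct.Cross
import Cfsg.Agent.Lib.FusionMeet.Basic
import Cfsg.Agent.Lib.Fusion.WeaklyNormalResidual
import Cfsg.Agent.Lib.Fusion.Normal
import Cfsg.Agent.Lib.Fusion.AlperinGroup
import Cfsg.Agent.Lib.Fusion.ResidualNormal
import Cfsg.Agent.Lib.FusionMeet.System

/-!
# A strongly closed subgroup meeting a normal subsystem centrally commutes with its hyperfocal subgroup
-/

set_option autoImplicit false
set_option linter.unusedSectionVars false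
set_option linter.style.haveILetI false

namespace Cfsg.Agent.FusionComp

open Cfsg Cfsg.FusionSystem Cfsg.Agent.FusionSys Cfsg.Agent.FusionSys.FocCent
  Cfsg.Agent.FusionSys.LayerCore Cfsg.Agent.FusionMeet

variable {Ω : Type*} [Group Ω] {S W R : Subgroup Ω}

/-- If a coprime element fixes its commutator with `c` then that commutator is trivial. -/
theorem comm_eq_one {G : Type*} [Group G] {p : ℕ} {a c : G} (hco : (orderOf a).Coprime p)
    (hk : ∃ j : ℕ, (a * c * a⁻¹ * c⁻¹) ^ p ^ j = 1)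
    (hcomm : a * (a * c * a⁻¹ * c⁻¹) * a⁻¹ = a * c * a⁻¹ * c⁻¹) : a * c * a⁻¹ * c⁻¹ = 1 := by
  set k := a * c * a⁻¹ * c⁻¹ with hkdef
  have hn : ∀ n : ℕ, a ^ n * c * (a ^ n)⁻¹ = k ^ n * c := by
    intro n
    induction n with
    | zero => simp
    | succ n ih =>
      have h1 : a * k ^ n * a⁻¹ = k ^ n := by rw [← conj_pow, hcomm]
      calc a ^ (n + 1) * c * (a ^ (n + 1))⁻¹ = a * (a ^ n * c * (a ^ n)⁻¹) * a⁻¹ := by rw [pow_succ']; group
        _ = (a * k ^ n * a⁻¹) * (a * c * a⁻¹ * c⁻¹) * c := by rw [ih]; group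
        _ = k ^ (n + 1) * c := by rw [h1, ← hkdef, ← pow_succ]
  have h := hn (orderOf a)
  rw [pow_orderOf_eq_one, one_mul, inv_one, mul_one, right_eq_mul] at h
  obtain ⟨j, hj⟩ := hk
  exact orderOf_eq_one_iff.1 (Nat.eq_one_of_dvd_coprimes (hco.pow_right j) (orderOf_dvd_of_pow_eq_one h)
    (orderOf_dvd_of_pow_eq_one hj))

/-- The displacement of `x` under conjugation by `q`. -/
def dsp (q x : Ω) : Ω := x⁻¹ * (q * x * q⁻¹)

theorem dsp_inv {q x : Ω} (h : q * x * q⁻¹ = x * dsp q x) : q * x * q⁻¹ = x * dsp q x := h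

theorem dsp_spec (q x : Ω) : q * x * q⁻¹ = x * dsp q x := by rw [dsp, mul_inv_cancel_left]

variable [Finite S] {p : ℕ} [hp : Fact p.Prime]

/-- The maps preserving the displacements. -/
def dspSys (G : FusionSystem W) (R : Subgroup Ω) (hd : ∀ q ∈ R, ∀ x ∈ W, ∀ g ∈ W, dsp q (g * x * g⁻¹) = dsp q x) :
    FusionSystem W where
  Hom P := {φ | φ ∈ G.Hom P ∧ ∀ q ∈ R, ∀ x : P, dsp q (φ x) = dsp q x}
  le_of_mem h := G.le_of_mem h.1
  injective_of_mem h := G.injective_of_mem h.1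
  conj_mem hP hg := ⟨G.conj_mem hP hg, fun q hq x => hd q hq x (hP x.2) _ hg⟩
  comp_mem h1 h2 h := ⟨G.comp_mem h1.1 h2.1 h, fun q hq x => (h2.2 q hq ⟨_, h x⟩).trans (h1.2 q hq x)⟩
  inv_mem := by
    rintro P φ ⟨h, he⟩
    obtain ⟨ψ, hψ, hψe⟩ := G.inv_mem h
    refine ⟨ψ, ⟨hψ, ?_⟩, hψe⟩
    rintro q hq ⟨_, x, rfl⟩
    rw [hψe x]
    exact (he q hq x).symm

/-- Where a coprime liftable automorphism commutes with the conjugations by `R`. -/
theorem coprime_commutes (hS : IsPGroup p S) {F : FusionSystem S} (hF : F.IsSaturated p) {G : FusionSystem W}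
    (hG : G.IsInvariantIn F) (hR : F.StronglyClosed R)
    (hfixZ : ∀ (P : Subgroup Ω) (φ : P →* Ω), φ ∈ G.Hom P → ∀ x : P, (x : Ω) ∈ R ⊓ W → φ x = x)
    {P P' : Subgroup Ω} (hPW : P ≤ W) (hrad : G.IsRadical p P) (hRN : R ≤ normalizerIn S P)
    (hdZ : ∀ q ∈ R, ∀ x ∈ P, dsp q x ∈ R ⊓ W) (hZP : R ⊓ W ≤ P)
    {φ : ↥(normalizerIn S P) →* Ω} (hφ : φ ∈ F.Hom (normalizerIn S P))
    (hφP : (P.subgroupOf (normalizerIn S P)).map φ = P') (hP' : F.IsFullyNormalized P')
    (e : P ≃* P') (he : ∀ (r : P) (hr : (r : Ω) ∈ normalizerIn S P), ((e r : P') : Ω) = φ ⟨r, hr⟩)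
    {a : MulAut P} (ha : a ∈ G.autGroup P) (hco : (orderOf a).Coprime p)
    {h : MulAut (rc S P')} (hh : IsLift F P' h) (hr : Rel (le_rc P') h (MulAut.congr e a))
    {q : Ω} (hq : q ∈ R) (x : P) : dsp q ((a x : P) : Ω) = dsp q x := by
  obtain ⟨hGF, hW, hAI, hfr⟩ := hG
  have hWS := hW.1
  have hPS := hPW.trans hWS
  have hPN : P ≤ normalizerIn S P := le_normalizerIn hPS
  have hres := extend_restrict_range hPN hφP
  have hP'S := hP'.1
  haveI := finite_of_le hPS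
  haveI := finite_of_le hP'S
  haveI := finite_of_le (rc_le (S := S) hP'S)
  haveI : Finite R := finite_of_le (S := S) hR.1
  haveI : Finite (MulAut P) := Finite.of_injective _ DFunLike.coe_injective
  haveI : Finite (MulAut P') := Finite.of_injective _ DFunLike.coe_injective
  have hGfix : ∀ b ∈ G.autGroup P, ∀ z : P, (z : Ω) ∈ R ⊓ W → b z = z := fun b hb z hz =>
    Subtype.ext (hfixZ P _ ((equivHom_autGroup G hPW).1 hb) z hz)
  have hφR : ∀ (u : Ω) (hu : u ∈ normalizerIn S P), u ∈ R → φ ⟨u, hu⟩ ∈ R := fun u hu huR =>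
    stronglyClosed_apply_mem hR hφ _ huR
  have hφR' : ∀ z ∈ R, ∃ u, ∃ hu : u ∈ R, φ ⟨u, hRN hu⟩ = z := fun z hz => by
    obtain ⟨u, hu, hue⟩ := exists_preimage_stronglyClosed hR hφ hRN hz
    exact ⟨u, hu, hue⟩
  -- the subgroup generated by the transported conjugations
  let K : Subgroup (MulAut P') :=
    { carrier := {b | b ∈ F.autGroup P' ∧ (∀ y : P', (y : Ω)⁻¹ * ((b y : P') : Ω) ∈ R ⊓ W) ∧
        ∃ u ∈ R, ∀ y : P', (y : Ω) ∈ R ⊓ W → ((b y : P') : Ω) = u * y * u⁻¹}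
      one_mem' := ⟨Subgroup.one_mem _, fun y => by simp, 1, R.one_mem, fun y _ => by simp⟩
      mul_mem' := fun {b b'} ⟨hb, mb, u, hu, eb⟩ ⟨hb', mb', u', hu', eb'⟩ => by
        refine ⟨Subgroup.mul_mem _ hb hb', fun y => ?_, u * u', R.mul_mem hu hu', fun y hy => ?_⟩
        · have := Subgroup.mul_mem _ (mb' y) (mb (b' y))
          rwa [mul_assoc, mul_inv_cancel_left] at this
        · have hy' : ((b' y : P') : Ω) ∈ R ⊓ W := by
            have := Subgroup.mul_mem _ hy (mb' y)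
            rwa [mul_inv_cancel_left] at this
          rw [MulAut.mul_apply, eb _ hy', eb' _ hy]
          group
      inv_mem' := fun {b} ⟨hb, mb, u, hu, eb⟩ => by
        refine ⟨Subgroup.inv_mem _ hb, fun y => ?_, u⁻¹, R.inv_mem hu, fun y hy => ?_⟩
        · have := Subgroup.inv_mem _ (mb (b⁻¹ y))
          rw [MulAut.apply_inv_self, mul_inv_rev, inv_inv] at this
          exact this
        · have h1 := Subgroup.inv_mem _ (mb (b⁻¹ y))
          rw [MulAut.apply_inv_self, mul_inv_rev, inv_inv] at h1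
          have hy' : ((b⁻¹ y : P') : Ω) ∈ R ⊓ W := by
            have := Subgroup.mul_mem _ hy h1
            rwa [mul_inv_cancel_left] at this
          have h2 := eb _ hy'
          rw [MulAut.apply_inv_self] at h2
          rw [h2]
          group }
  have hKp : IsPGroup p K := by
    rintro ⟨b, hb, mb, u, hu, eb⟩
    obtain ⟨j, hj⟩ := hS.to_le hR.1 ⟨u, hu⟩
    have hju : u ^ p ^ j = 1 := congrArg Subtype.val hj
    have hpow : ∀ n : ℕ, (∀ y : P', (y : Ω)⁻¹ * (((b ^ n) y : P') : Ω) ∈ R ⊓ W) ∧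
        ∀ y : P', (y : Ω) ∈ R ⊓ W → (((b ^ n) y : P') : Ω) = u ^ n * y * (u ^ n)⁻¹ := by
      intro n
      induction n with
      | zero => exact ⟨fun y => by simp, fun y _ => by simp⟩
      | succ n ih =>
        refine ⟨fun y => ?_, fun y hy => ?_⟩
        · have := Subgroup.mul_mem _ (ih.1 y) (mb ((b ^ n) y))
          rwa [mul_assoc, mul_inv_cancel_left, ← MulAut.mul_apply, ← pow_succ'] at this
        · have hy' : (((b ^ n) y : P') : Ω) ∈ R ⊓ W := by
            have := Subgroup.mul_mem _ hy (ih.1 y)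
            rwa [mul_inv_cancel_left] at this
          rw [pow_succ', MulAut.mul_apply, eb _ hy', ih.2 y hy]
          group
    obtain ⟨m, hm⟩ := hpow (p ^ j)
    obtain ⟨k, hk⟩ := pElement_of_disp (hS.to_le hP'S) (inf_le_left : P' ⊓ (R ⊓ W) ≤ P') (δ := b ^ p ^ j)
      (fun y => Subtype.ext (by
        have := hm ⟨(y : Ω), y.2.1⟩ y.2.2
        rw [hju, one_mul, inv_one, mul_one] at this
        exact this))
      fun y => ⟨P'.mul_mem (P'.inv_mem y.2) ((b ^ p ^ j) y).2, m y⟩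
    refine ⟨j + k, Subtype.ext ?_⟩
    show b ^ p ^ (j + k) = 1
    rw [pow_add, pow_mul, hk]
  have hsyl := isSyl_of_fullyAutomized (fullyNormalized_imp hS hF hP').2
  have hKn : autInducedBy S P' ≤ Subgroup.normalizer (K : Set (MulAut P')) := fun c hc => by
    obtain ⟨s, hs, hse⟩ := (mem_autInducedBy_iff _).1 hc
    refine mem_normalizer_of_conj_mem_finite fun b ⟨hb, mb, u, hu, eb⟩ => ?_
    have hcF := autInducedBy_le_autGroup F hP'S hc
    have hRs : ∀ z, z ∈ R ⊓ W → s * z * s⁻¹ ∈ R ⊓ W := fun z hz =>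
      ⟨(Subgroup.mem_normalizer_iff.1 (stronglyClosed_le_normalizer hR hs) z).1 hz.1,
        (Subgroup.mem_normalizer_iff.1 (stronglyClosed_le_normalizer hW hs) z).1 hz.2⟩
    refine ⟨Subgroup.mul_mem _ (Subgroup.mul_mem _ hcF hb) (Subgroup.inv_mem _ hcF), fun y => ?_,
      s * u * s⁻¹, (Subgroup.mem_normalizer_iff.1 (stronglyClosed_le_normalizer hR hs) u).1 hu, fun y hy => ?_⟩
    · have h1 := hRs _ (mb (c⁻¹ y))
      have e1 : s * ((c⁻¹ y : P') : Ω) * s⁻¹ = y := by rw [← hse, MulAut.apply_inv_self]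
      rw [MulAut.mul_apply, MulAut.mul_apply, hse]
      rw [show s * (((c⁻¹ y : P') : Ω)⁻¹ * ((b (c⁻¹ y) : P') : Ω)) * s⁻¹ =
        (s * ((c⁻¹ y : P') : Ω) * s⁻¹)⁻¹ * (s * ((b (c⁻¹ y) : P') : Ω) * s⁻¹) by group, e1] at h1
      exact h1
    · have e1 : ((c⁻¹ y : P') : Ω) = s⁻¹ * y * s := by
        have := hse (c⁻¹ y)
        rw [MulAut.apply_inv_self] at this
        rw [this]; group
      have hy' : ((c⁻¹ y : P') : Ω) ∈ R ⊓ W := by
        rw [e1]
        have := hW.1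
        exact ⟨by simpa using (Subgroup.mem_normalizer_iff.1 (stronglyClosed_le_normalizer hR (S.inv_mem hs)) y).1 hy.1,
          by simpa using (Subgroup.mem_normalizer_iff.1 (stronglyClosed_le_normalizer hW (S.inv_mem hs)) y).1 hy.2⟩
      rw [MulAut.mul_apply, MulAut.mul_apply, hse, eb _ hy', e1]
      group
  have hKS : K ≤ autInducedBy S P' := by
    have hp2 : IsPGroup p ↥(K ⊔ autInducedBy S P') := IsPGroup.to_sup_of_normal_left' hKp hsyl.2.1 hKn
    have := hsyl.eq_of_le (X := K ⊔ autInducedBy S P') le_sup_right (sup_le (fun b hb => hb.1) hsyl.1) hp2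
    exact this ▸ le_sup_left
  -- the conjugations by `R` are permuted
  set A := autInducedBy R P with hA
  have hAn : ∀ b ∈ G.autGroup P, ∀ c ∈ A, b * c * b⁻¹ ∈ A := by
    intro b hb c hc
    obtain ⟨u, hu, hue⟩ := (mem_autInducedBy_iff _).1 hc
    have heF : equivHom e ∈ F.Hom P := hom_congr F (restrict_mem F hφ hPN) fun r => he r (hPN r.2)
    have heF' := equivHom_symm_mem F e heF
    have hbF := congr_mem_autGroup F e heF heF' (autGroup_mono hGF P hb)
    set u' := φ ⟨u, hRN hu⟩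
    have hu'R : u' ∈ R := hφR u (hRN hu) hu
    have hu'N : u' ∈ Subgroup.normalizer (P' : Set Ω) := apply_mem_normalizer φ hPN hres _ (hRN hu).2
    obtain ⟨c', hc', hc'e⟩ := exists_conjAut (K := S) (hR.1 hu'R) hu'N
    have hZ' : ∀ y : P', (y : Ω) ∈ R ⊓ W → MulAut.congr e b y = y := fun y hy => by
      obtain ⟨z, rfl⟩ := e.surjective y
      rw [congr_apply, e.symm_apply_apply, hGfix b hb z]
      obtain ⟨χ, hχ, -, hχ1, -⟩ := exists_inv F heF
      have h1 := stronglyClosed_apply_mem hR hχ ⟨_, ⟨z, rfl⟩⟩ (show equivHom e z ∈ R from hy.1)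
      rw [hχ1 z ⟨z, rfl⟩] at h1
      exact ⟨h1, hPW z.2⟩
    have hKc : MulAut.congr e b * c' * (MulAut.congr e b)⁻¹ ∈ K := by
      have hc'K : c' ∈ K := by
        refine ⟨autInducedBy_le_autGroup F hP'S hc', fun y => ?_, u', hu'R, fun y _ => hc'e y⟩
        obtain ⟨z, rfl⟩ := e.surjective y
        rw [hc'e, he z (hPN z.2)]
        have h2 : dsp u z ∈ R ⊓ W := hdZ u hu z z.2
        have h3 : (φ ⟨z, hPN z.2⟩)⁻¹ * (u' * φ ⟨z, hPN z.2⟩ * u'⁻¹) =
            φ ⟨dsp u z, hPN (hZP h2)⟩ := by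
          rw [← map_inv, ← map_inv, ← map_mul, ← map_mul, ← map_mul]
          rfl
        rw [h3]
        exact ⟨hφR _ _ h2.1, stronglyClosed_apply_mem hW hφ _ h2.2⟩
      obtain ⟨hb', mb, v, hv, eb⟩ := hc'K
      refine ⟨Subgroup.mul_mem _ (Subgroup.mul_mem _ hbF hb') (Subgroup.inv_mem _ hbF), fun y => ?_, v, hv,
        fun y hy => ?_⟩
      · set y₀ := (MulAut.congr e b)⁻¹ y
        have hy₀ : MulAut.congr e b y₀ = y := MulAut.apply_inv_self _ _ _
        have h1 := mb y₀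
        have h2 : MulAut.congr e b (y₀⁻¹ * c' y₀) = y₀⁻¹ * c' y₀ := hZ' _ h1
        rw [map_mul, map_inv, hy₀] at h2
        have h3 : y⁻¹ * (MulAut.congr e b * c' * (MulAut.congr e b)⁻¹) y = y₀⁻¹ * c' y₀ := h2
        have h4 := congrArg Subtype.val h3
        simp only [Subgroup.coe_mul, Subgroup.coe_inv] at h4
        rw [h4]; exact h1
      · have hinv : (MulAut.congr e b)⁻¹ y = y := by
          nth_rewrite 1 [← hZ' y hy]
          exact MulAut.inv_apply_self _ _ _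
        have hcy : ((c' y : P') : Ω) ∈ R ⊓ W := by
          have := Subgroup.mul_mem _ hy (mb y)
          rwa [mul_inv_cancel_left] at this
        rw [MulAut.mul_apply, MulAut.mul_apply, hinv, hZ' _ hcy, eb y hy]
    obtain ⟨s, hs, hse⟩ := (mem_autInducedBy_iff _).1 (hKS hKc)
    have hext : u' ∈ extender S P' (equivHom (MulAut.congr e b)) := by
      refine Subgroup.subset_closure ⟨hR.1 hu'R, hu'N, s, hs, fun y hy => ?_⟩
      have h2 := hse (MulAut.congr e b y)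
      simp only [MulAut.mul_apply, MulAut.inv_apply_self] at h2
      refine Eq.trans ?_ h2
      rw [equivHom_apply, show (⟨u' * (y : Ω) * u'⁻¹, hy⟩ : P') = c' y from Subtype.ext (hc'e y).symm]
    obtain ⟨ψ, hψ, hψe⟩ := (fullyNormalized_receptive hS hF hP').2 P' _ ((equivHom_autGroup F hP'S).1 hbF)
      (equivHom_range _)
    have hv' : ψ ⟨u', hext⟩ ∈ R := stronglyClosed_apply_mem hR hψ _ hu'R
    obtain ⟨v, hv, hve⟩ := hφR' _ hv'
    refine (mem_autInducedBy_iff _).2 ⟨v, hv, fun z => ?_⟩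
    set z₀ := b⁻¹ z
    have hz₀ : b z₀ = z := MulAut.apply_inv_self _ _ _
    have hvz : v * (z : Ω) * v⁻¹ ∈ P := (Subgroup.mem_normalizer_iff.1 (hRN hv).2 z).1 z.2
    show ((b (c z₀) : P) : Ω) = v * z * v⁻¹
    refine congrArg (fun w : normalizerIn S P => (w : Ω))
      (F.injective_of_mem hφ (a₁ := ⟨_, hPN (b (c z₀)).2⟩) (a₂ := ⟨_, hPN hvz⟩) ?_)
    rw [show (⟨v * (z : Ω) * v⁻¹, hPN hvz⟩ : normalizerIn S P) =
      ⟨v, hRN hv⟩ * ⟨z, hPN z.2⟩ * ⟨v, hRN hv⟩⁻¹ from rfl, map_mul, map_mul, map_inv, hve, ← he z (hPN z.2), ← hz₀,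
      ← he _ (hPN (b (c z₀)).2)]
    have e2 : ∀ w : P, ((e (b w) : P') : Ω) = ψ ⟨e w, le_extender F ((equivHom_autGroup F hP'S).1 hbF) (e w).2⟩ :=
      fun w => by
        rw [hψe _ (e w).2 _]
        show _ = ((MulAut.congr e b (e w) : P') : Ω)
        rw [congr_apply, e.symm_apply_apply]
    rw [e2, e2, ← map_inv, ← map_mul, ← map_mul]
    refine congrArg ψ (Subtype.ext ?_)
    show ((e (c z₀) : P') : Ω) = u' * (e z₀ : P') * u'⁻¹
    rw [he _ (hPN (c z₀).2), he _ (hPN z₀.2), ← map_inv, ← map_mul, ← map_mul]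
    exact congrArg φ (Subtype.ext (hue z₀))
  -- the intersection with `G` is inner
  obtain ⟨c, hc, hce⟩ := exists_conjAut (K := R) (P := P) hq (hRN hq).2
  have hcF : c ∈ F.autGroup P := autInducedBy_le_autGroup F hPS (autInducedBy_mono hR.1 hc)
  have hAp : IsPGroup p A := autInducedBy_isPGroup (hS.to_le hR.1)
  have hinn : A ⊓ G.autGroup P ≤ Inn P := fun b hb => by
    have h1 : (⟨b, hb.2⟩ : G.autGroup P) ∈ pCore p (G.autGroup P) := by
      refine Cfsg.Agent.PBasic.le_pCore (N := A.subgroupOf (G.autGroup P)) ⟨fun y hy g => hAn g g.2 y hy⟩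
        (isPGroup_subgroupOf hAp) hb.1
    exact hrad.2.le ⟨_, h1, rfl⟩
  set k := a * c * a⁻¹ * c⁻¹ with hk
  have hkA : k ∈ A := Subgroup.mul_mem _ (hAn a ha c hc) (Subgroup.inv_mem _ hc)
  have hkG : k ∈ G.autGroup P := by
    have h1 := congr_mem_of_frattini hAI hPW c (hfr P hPW _ ((equivHom_autGroup F hPS).1 hcF))
      (Subgroup.inv_mem _ ha)
    have e1 : MulAut.congr c a⁻¹ = c * a⁻¹ * c⁻¹ := MulEquiv.ext fun y => by
      rw [congr_apply]; rfl
    rw [e1] at h1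
    have := Subgroup.mul_mem _ ha h1
    rwa [← mul_assoc, ← mul_assoc] at this
  obtain ⟨r, hrR, hre⟩ := (mem_autInducedBy_iff _).1 hkA
  have hkI := hinn ⟨hkA, hkG⟩
  rw [inn_eq_autInducedBy_self] at hkI
  obtain ⟨y, hy, hye⟩ := (mem_autInducedBy_iff _).1 hkI
  have hcent : y⁻¹ * r ∈ centralizerIn S P := by
    refine ⟨S.mul_mem (S.inv_mem (hPS hy)) (hR.1 hrR), Subgroup.mem_centralizer_iff.2 fun w hw => ?_⟩
    have := (hre ⟨w, hw⟩).symm.trans (hye ⟨w, hw⟩)
    calc w * (y⁻¹ * r) = y⁻¹ * (y * w * y⁻¹) * r := by group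
      _ = y⁻¹ * (r * w * r⁻¹) * r := by rw [this]
      _ = y⁻¹ * r * w := by group
  -- the lift fixes the transported element
  have hco' : (orderOf (MulAut.congr e a)).Coprime p := by rwa [MulEquiv.orderOf_eq]
  obtain ⟨n, hn, hne⟩ := exists_pprime_exp p h (MulAut.congr e a) hco'
  have hrn : Rel (le_rc P') (h ^ n) (MulAut.congr e a) := by rw [← hne]; exact hr.pow n
  have hhn : IsLift F P' (h ^ n) := Subgroup.pow_mem (liftGroup F hP'S) (show h ∈ liftGroup F hP'S from hh) n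
  have hhm := (equivHom_autGroup F (rc_le hP'S)).1 hhn.1
  have hyP' : φ ⟨y, hPN hy⟩ ∈ P' := by rw [← he ⟨y, hy⟩ (hPN hy)]; exact (e ⟨y, hy⟩).2
  set y' : rc S P' := ⟨φ ⟨y, hPN hy⟩, le_rc P' hyP'⟩
  set cc : rc S P' := ⟨φ ⟨y⁻¹ * r, centralizerIn_le_normalizerIn S P hcent⟩,
    cent_le_rc P' ⟨hom_apply_mem F hφ _, apply_mem_centralizer φ hPN hres ⟨_, centralizerIn_le_normalizerIn S P hcent⟩ hcent.2⟩⟩
  set ρ : rc S P' := y' * cc
  have hρ : (ρ : Ω) = φ ⟨r, hRN hrR⟩ := by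
    show φ ⟨y, _⟩ * φ ⟨y⁻¹ * r, _⟩ = _
    rw [← map_mul]
    exact congrArg φ (Subtype.ext (mul_inv_cancel_left _ _))
  have hρR : (ρ : Ω) ∈ R := hρ ▸ hφR r _ hrR
  have hfix : (h ^ n) ρ = ρ := by
    refine fix_of_step (hS.to_le (rc_le hP'S)) hn ?_
    set w := ρ⁻¹ * (h ^ n) ρ
    have hwR : (w : Ω) ∈ R := R.mul_mem (R.inv_mem hρR) (stronglyClosed_apply_mem hR hhm ρ hρR)
    have hy'P : (y' : Ω) ∈ P' := hyP'
    have hd := hhn.2.2 cc ⟨hom_apply_mem F hφ _, apply_mem_centralizer φ hPN hres _ hcent.2⟩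
    have hyy : (y' : Ω)⁻¹ * (((h ^ n) y' : rc S P') : Ω) ∈ P' :=
      P'.mul_mem (P'.inv_mem hy'P) (hhn.2.1 y' hy'P)
    have hwP : (w : Ω) ∈ P' := by
      have hc2 := Subgroup.mem_centralizer_iff.1 (apply_mem_centralizer φ hPN hres ⟨_, centralizerIn_le_normalizerIn S P hcent⟩ hcent.2) _ hyy
      have hwe : (w : Ω) = ((y' : Ω)⁻¹ * (((h ^ n) y' : rc S P') : Ω)) *
          ((cc : Ω)⁻¹ * (((h ^ n) cc : rc S P') : Ω)) := by
        show ((y' : Ω) * (cc : Ω))⁻¹ * (((h ^ n) (y' * cc) : rc S P') : Ω) = _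
        rw [map_mul, Subgroup.coe_mul, mul_inv_rev,
          show (cc : Ω)⁻¹ * (y' : Ω)⁻¹ * ((((h ^ n) y' : rc S P') : Ω) * (((h ^ n) cc : rc S P') : Ω)) =
            (cc : Ω)⁻¹ * ((y' : Ω)⁻¹ * (((h ^ n) y' : rc S P') : Ω)) * (((h ^ n) cc : rc S P') : Ω) by group]
        rw [show (cc : Ω)⁻¹ * ((y' : Ω)⁻¹ * (((h ^ n) y' : rc S P') : Ω)) =
          ((y' : Ω)⁻¹ * (((h ^ n) y' : rc S P') : Ω)) * (cc : Ω)⁻¹ from
          (show Commute _ (cc : Ω) from hc2).inv_right.eq.symm, mul_assoc]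
      rw [hwe]
      exact P'.mul_mem hyy hd.1
    obtain ⟨z, hz⟩ := hres.ge hwP
    have hz' : φ (Subgroup.inclusion hPN z) = w := hz
    have hzR : (z : Ω) ∈ R := by
      obtain ⟨χ, hχ, -, hχ1, -⟩ := exists_inv F (restrict_mem F hφ hPN)
      have h1 := stronglyClosed_apply_mem hR hχ ⟨φ (Subgroup.inclusion hPN z), ⟨z, rfl⟩⟩
        (show φ (Subgroup.inclusion hPN z) ∈ R from hz' ▸ hwR)
      have e1 : χ ⟨φ (Subgroup.inclusion hPN z), ⟨z, rfl⟩⟩ = (z : Ω) := hχ1 z ⟨z, rfl⟩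
      exact e1 ▸ h1
    have hwe : w = Subgroup.inclusion (le_rc P') (e z) := Subtype.ext (hz'.symm.trans (he z (hPN z.2)).symm)
    rw [hwe, hrn, congr_apply, e.symm_apply_apply, hGfix a ha z ⟨hzR, hPW z.2⟩]
  have hcommk : a * k * a⁻¹ = k := by
    refine mul_inv_eq_iff_eq_mul.2 (MulEquiv.ext fun w => ?_)
    show a (k w) = k (a w)
    refine e.injective (Subtype.ext ?_)
    have hke : ∀ v : P, ((e (k v) : P') : Ω) = (ρ : Ω) * (e v : P') * (ρ : Ω)⁻¹ := fun v => by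
      rw [he _ (hPN (k v).2), he _ (hPN v.2), hρ, ← map_inv, ← map_mul, ← map_mul]
      exact congrArg φ (Subtype.ext (hre v))
    have hae : ∀ v : P, ((e (a v) : P') : Ω) = (((h ^ n) (Subgroup.inclusion (le_rc P') (e v)) : rc S P') : Ω) :=
      fun v => by
        rw [hrn, congr_apply, e.symm_apply_apply]
        rfl
    rw [hae, hke (a w), hae w,
      show Subgroup.inclusion (le_rc P') (e (k w)) = ρ * Subgroup.inclusion (le_rc P') (e w) * ρ⁻¹ from
        Subtype.ext (hke w), map_mul, map_mul, map_inv, hfix]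
    rfl
  have hk1 : k = 1 := comm_eq_one hco (by
    obtain ⟨j, hj⟩ := hAp ⟨k, hkA⟩
    exact ⟨j, congrArg Subtype.val hj⟩) hcommk
  have hac : a * c = c * a := mul_inv_eq_iff_eq_mul.1 (mul_inv_eq_one.1 hk1)
  have h1 : ((a (c x) : P) : Ω) = q * (a x : P) * q⁻¹ := by
    rw [← MulAut.mul_apply, hac, MulAut.mul_apply, hce]
  have h2 : c x = x * ⟨dsp q x, hZP (hdZ q hq x x.2)⟩ := Subtype.ext ((hce x).trans (dsp_spec q x))
  rw [h2, map_mul, Subgroup.coe_mul, hGfix a ha ⟨dsp q x, hZP (hdZ q hq x x.2)⟩ (hdZ q hq x x.2)] at h1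
  show ((a x : P) : Ω)⁻¹ * (q * (a x : P) * q⁻¹) = _
  rw [← h1, inv_mul_cancel_left]

/-- A strongly closed subgroup meeting a normal subsystem centrally commutes with its hyperfocal subgroup. -/
theorem hyperfocal_commutes (hS : IsPGroup p S) {F : FusionSystem S} (hF : F.IsSaturated p) {G : FusionSystem W}
    (hG : G.IsNormalIn F p) (hR : F.StronglyClosed R) (hZ : G.IsCentral (R ⊓ W)) :
    G.hyperfocalSubgroup p ≤ Subgroup.centralizer (R : Set Ω) := by
  obtain ⟨⟨hGs, -, hGinv⟩, hext⟩ := hG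
  obtain ⟨hGF, hW, -, -⟩ := id hGinv
  have hWS := hW.1
  haveI : Finite W := finite_of_le hWS
  have hWp : IsPGroup p W := hS.to_le hWS
  have hfixZ : ∀ (P : Subgroup Ω) (φ : P →* Ω), φ ∈ G.Hom P → ∀ x : P, (x : Ω) ∈ R ⊓ W → φ x = x := by
    intro P φ hφ x hx
    obtain ⟨ψ, -, h1, h2⟩ := isCentral_extend hZ hφ
    exact (h1 x x.2 (Subgroup.mem_sup_left x.2)).symm.trans (h2 x _ hx)
  have hZW : R ⊓ W ≤ Subgroup.centralizer (W : Set Ω) := (isCentral_le_center hZ).trans G.center_le_centralizer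
  have hzc : ∀ z ∈ R ⊓ W, ∀ w ∈ W, w * z = z * w := fun z hz w hw => Subgroup.mem_centralizer_iff.1 (hZW hz) w hw
  have hd : ∀ q ∈ R, ∀ x ∈ W, dsp q x ∈ R ⊓ W := fun q hq x hx => ⟨by
    have h1 := (Subgroup.mem_normalizer_iff.1 (stronglyClosed_le_normalizer hR (S.inv_mem (hWS hx))) q).1 hq
    rw [inv_inv] at h1
    rw [dsp, show x⁻¹ * (q * x * q⁻¹) = x⁻¹ * q * x * q⁻¹ by group]
    exact R.mul_mem h1 (R.inv_mem hq),
    W.mul_mem (W.inv_mem hx) ((Subgroup.mem_normalizer_iff.1 (stronglyClosed_le_normalizer hW (hR.1 hq)) x).1 hx)⟩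
  have hdm : ∀ q ∈ R, ∀ x ∈ W, ∀ y ∈ W, dsp q (x * y) = dsp q x * dsp q y := fun q hq x hx y hy => by
    calc dsp q (x * y) = y⁻¹ * dsp q x * (q * y * q⁻¹) := by simp only [dsp]; group
      _ = dsp q x * (y⁻¹ * (q * y * q⁻¹)) := by
        rw [hzc _ (hd q hq x hx) _ (W.inv_mem hy), mul_assoc]
      _ = _ := rfl
  have hdc : ∀ q ∈ R, ∀ x ∈ W, ∀ g ∈ W, dsp q (g * x * g⁻¹) = dsp q x := fun q hq x hx g hg => by
    have hdg : dsp q g * dsp q g⁻¹ = 1 := by
      rw [← hdm q hq g hg g⁻¹ (W.inv_mem hg), mul_inv_cancel]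
      simp [dsp]
    rw [hdm q hq _ (W.mul_mem hg hx) _ (W.inv_mem hg), hdm q hq g hg x hx, mul_assoc,
      hzc _ (hd q hq g⁻¹ (W.inv_mem hg)) _ (hd q hq x hx).2, ← mul_assoc, hdg, one_mul]
  have hRW : ∀ {P : Subgroup Ω}, P ≤ W → R ⊓ W ≤ P → R ≤ normalizerIn S P := fun {P} hPW hZP q hq => by
    haveI := finite_of_le (hPW.trans hWS)
    refine ⟨hR.1 hq, mem_normalizer_of_conj_mem_finite fun x hx => ?_⟩
    rw [dsp_spec q x]
    exact P.mul_mem hx (hZP (hd q hq x (hPW hx)))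
  suffices key : G ≤ dspSys G R hdc by
    refine (Subgroup.closure_le _).2 ?_
    rintro _ ⟨P, α, x, hP, -, rfl⟩
    refine Subgroup.mem_centralizer_iff.2 fun q hq => ?_
    have h1 := (key P ((equivHom_autGroup G hP).1 α.2)).2 q hq x
    have hαW : (((α : MulAut P) x : P) : Ω) ∈ W := hP ((α : MulAut P) x).2
    have h2 := hdm q hq _ (W.inv_mem (hP x.2)) _ hαW
    have h3 := hdm q hq _ (W.inv_mem (hP x.2)) _ (hP x.2)
    rw [show dsp q (((α : MulAut P) x : P) : Ω) = dsp q x from h1, ← h3, inv_mul_cancel,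
      show dsp q 1 = 1 by simp [dsp]] at h2
    have h4 := dsp_spec q ((x : Ω)⁻¹ * (((α : MulAut P) x : P) : Ω))
    rw [h2, mul_one] at h4
    exact mul_inv_eq_iff_eq_mul.1 h4
  refine alperin_ind hWp hGs fun P hP ih => ?_
  have hPW : P ≤ W := hP.elim (fun h => h.le) fun h => h.1.1
  have hPS := hPW.trans hWS
  haveI := finite_of_le hPS
  have hZP : R ⊓ W ≤ P := hP.elim (fun h => h ▸ inf_le_right) fun h z hz =>
    h.1.2 P (isConj_refl G hPW) ⟨hz.2, Subgroup.centralizer_le (SetLike.coe_subset_coe.2 hPW) (hZW hz)⟩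
  have hrad : G.IsRadical p P := hP.elim (fun h => h ▸ Cfsg.Agent.AlperinGroup.radical_top hWp hGs)
    (essential_radical hWp hGs)
  have hfn : G.IsFullyNormalized P := by
    rcases hP with h | h
    · rw [h]
      exact ⟨le_rfl, fun Q _ => by
        haveI : Finite (normalizerIn W W) := finite_of_le ((normalizerIn_le W W).trans hWS)
        exact Subgroup.card_le_of_le ((normalizerIn_le _ _).trans (le_normalizerIn le_rfl))⟩
    · exact h.2.1
  have hsyl := isSyl_of_fullyAutomized (fullyNormalized_imp hWp hGs hfn).2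
  have hPN := le_normalizerIn (S := S) hPS
  obtain ⟨P', φ, hφ, hφP, hfn', e, he, hPc, hspec⟩ :
      ∃ (P' : Subgroup Ω) (φ : ↥(normalizerIn S P) →* Ω), φ ∈ F.Hom (normalizerIn S P) ∧
        (P.subgroupOf (normalizerIn S P)).map φ = P' ∧ F.IsFullyNormalized P' ∧
        ∃ e : P ≃* P', (∀ (r : P) (hr : (r : Ω) ∈ normalizerIn S P), ((e r : P') : Ω) = φ ⟨r, hr⟩) ∧
          W ⊓ Subgroup.centralizer (P' : Set Ω) ≤ P' ∧
          (P = W → ∀ α ∈ G.autGroup P, ∃ h, IsLift F P' h ∧ Rel (le_rc P') h (MulAut.congr e α)) := by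
    rcases hP with h | hess
    · subst h
      refine ⟨P, (normalizerIn S P).subtype, subtype_mem F (normalizerIn_le S P),
        by rw [Subgroup.subgroupOf_map_subtype, inf_of_le_left hPN],
        fullyNormalized_of_stronglyClosed hW,
        MulEquiv.refl P, fun r hr => rfl, inf_le_left, fun _ α hα => ?_⟩
      obtain ⟨β, hβ, hβ1, hβ2⟩ := hext α hα
      refine ⟨β, ⟨hβ, fun x hx => ?_, fun x hx => hβ2 x hx⟩, fun r => Subtype.ext (hβ1 r)⟩
      have := hβ1 ⟨x, hx⟩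
      rw [show x = Subgroup.inclusion le_sup_left (⟨x, hx⟩ : P) from Subtype.ext rfl]
      exact this ▸ (α _).2
    · obtain ⟨P', hconj, hP'⟩ := exists_fullyNormalized F hPS
      obtain ⟨φ, hφ, -, hφP⟩ := exists_normalizer_map_fullyNormalized hS hF hP' hconj
      have hres := extend_restrict_range hPN hφP
      exact ⟨P', φ, hφ, hφP, hP', mapEquiv F (restrict_mem F hφ hPN) hres, fun r hr => rfl,
        (centric_of_conj hGinv hess.1 hconj).2 P' (isConj_refl G (isConj_le_stronglyClosed hW hPW hconj)),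
        fun h => absurd h (essential_lt hWp hGs hess).ne⟩
  obtain ⟨L, hL, hmem, hLn, hV⟩ := exists_liftable hS hF hGinv hPW hφ hφP (fullyNormalized_imp hS hF hfn').1 hPc e he
  set A := G.autGroup P
  set A' := (dspSys G R hdc).autGroup P
  have hVA' : autInducedBy W P ≤ A' := autInducedBy_le_autGroup _ hPW
  have hLA' : ∀ α ∈ L, α ∈ A' := by
    have hsylL : IsSyl p (autInducedBy W P) L := ⟨fun v hv => (hV v hv).1, hsyl.2.1, fun hd =>
      hsyl.2.2 (hd.trans (Dvd.intro _ (Subgroup.relIndex_mul_relIndex _ L _ (fun v hv => (hV v hv).1)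
        fun α hα => (hL α hα).1)))⟩
    haveI : Finite L := inferInstance
    obtain ⟨Sy, hSy⟩ := hsylL.toSylow
    have htop : (Sy : Subgroup L) ⊔ Cfsg.pResidual p L ≤ A'.subgroupOf L := by
      refine sup_le (fun v hv => hVA' (by rw [hSy] at hv; exact hv))
        ((Subgroup.closure_le _).2 fun a ha => ?_)
      obtain ⟨haG, k, hk, hka⟩ := hL a a.2
      exact (equivHom_autGroup _ hPW).2 ⟨(equivHom_autGroup G hPW).1 haG, fun q hq x =>
        coprime_commutes hS hF hGinv hR hfixZ hPW hrad (hRW hPW hZP) (fun q hq x hx => hd q hq x (hPW hx)) hZP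
          hφ hφP hfn' e he haG (by rw [Subgroup.orderOf_coe]; exact ha) hk hka hq x⟩
    rw [Cfsg.Agent.PBasic.sylow_sup_pResidual] at htop
    exact fun α hα => htop (Subgroup.mem_top (⟨α, hα⟩ : L))
  rcases eq_or_lt_of_le hPW with hPW' | hlt'
  · exact fun α hα => hLA' α (hmem α hα (hspec hPW' α hα))
  · haveI : (L.subgroupOf A).Normal := ⟨fun l hl a => hLn a (autGroup_mono hGF P a.2) l hl⟩
    obtain ⟨Sy, hSy⟩ := hsyl.toSylow
    have htop := Sylow.normalizer_sup_eq_top' (N := L.subgroupOf A) Sy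
      (by rw [hSy]; exact fun v hv => (hV v hv).1)
    suffices A'.subgroupOf A = ⊤ from fun α hα => (this.ge (Subgroup.mem_top (⟨α, hα⟩ : A)) : _)
    rw [← top_le_iff, ← htop]
    refine sup_le (fun n hn => ?_) fun l hl => hLA' _ hl
    have hnE := (equivHom_autGroup G hPW).1 n.2
    obtain ⟨ψ, hψ, hag⟩ := (fullyNormalized_receptive hWp hGs hfn).2 P _ hnE
      (equivHom_range (n : MulAut P))
    have hNext : normalizerIn W P ≤ extender W P (equivHom (n : MulAut P)) := by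
      intro g hg
      obtain ⟨a, ha, hae⟩ := exists_conjAut (P := P) hg.1 hg.2
      have h1 := (Subgroup.mem_normalizer_iff.1 hn (⟨a, hsyl.1 ha⟩ : A)).1 (by
        rw [hSy]; exact ha)
      rw [hSy, Subgroup.mem_subgroupOf] at h1
      obtain ⟨k, hk, hke⟩ := (mem_autInducedBy_iff _).1 h1
      refine Subgroup.subset_closure ⟨hg.1, hg.2, k, hk, fun x hx => ?_⟩
      have h2 := hke ((n : MulAut P) x)
      simp only [Subgroup.coe_mul, Subgroup.coe_inv, MulAut.mul_apply] at h2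
      rw [show (n : MulAut P)⁻¹ ((n : MulAut P) x) = x from (n : MulAut P).symm_apply_apply x] at h2
      refine Eq.trans ?_ h2
      show (((n : MulAut P) ⟨_, hx⟩ : P) : Ω) = _
      rw [show (⟨g * (x : Ω) * g⁻¹, hx⟩ : P) = a x from Subtype.ext (hae x).symm]
    have hlt : P < normalizerIn W P := lt_normalizerIn hWp hlt'
    have hmem' := ih _ hlt (restrict_mem G hψ hNext)
    refine (equivHom_autGroup _ hPW).2 (hom_congr _ (restrict_mem (dspSys G R hdc) hmem' hlt.le) fun x => ?_)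
    exact (hag x x.2 (hNext (hlt.le x.2))).symm

end Cfsg.Agent.FusionComp
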