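import Cfsg.Agent.Lib.FusionComp.Dichotomy
import Cfsg.Agent.Lib.Fusion.KNormalizer
import Cfsg.Agent.Lib.Fusion.Normal

/-!
# Normal subsystems over commuting subgroups have a normal product
-/

set_option autoImplicit false
set_option linter.unusedSectionVars false
set_option linter.style.haveILetI false

namespace Cfsg.Agent.FusionComp

open Cfsg Cfsg.FusionSystem Cfsg.Agent.FusionSys Cfsg.Agent.FusionSys.FocCent
  Cfsg.Agent.FusionSys.LayerCore Cfsg.Agent.FusionMeet Cfsg.Agent.FusionProd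

variable {Ω : Type*} [Group Ω] {S T T₁ T₂ Z : Subgroup Ω} [Finite S] {p : ℕ} [hp : Fact p.Prime]
variable {F : FusionSystem S}

/-- A normal subsystem contains one over the same carrier in which a strongly closed central subgroup of the
carrier is central. -/
theorem exists_normal_central (hS : IsPGroup p S) {E : FusionSystem T} (hE : E.IsNormalIn F p)
    (hZ : F.StronglyClosed Z) (hZT : Z ≤ T) (hZc : Z ≤ Subgroup.centralizer (T : Set Ω)) :
    ∃ D : FusionSystem T, D.IsNormalIn F p ∧ D.IsCentral Z := by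
  obtain ⟨hEs, hF, hEF, hT, hAI, hfr⟩ := id hE.1
  have hTS := hT.1
  haveI : Finite T := finite_of_le hTS
  haveI : Finite Z := finite_of_le (S := T) hZT
  have hTp := hS.to_le hTS
  have hZE : E.StronglyClosed Z := ⟨hZT, fun R hR φ hφ x => hZ.2 R hR φ (hEF R hφ) x⟩
  have hnor : E.IsNormal Z := isNormal_of_abelian hTp hEs hZE fun x hx y hy =>
    (Subgroup.mem_centralizer_iff.1 (hZc hy) x (hZT hx))
  have hcT : centralizerIn T Z = T := le_antisymm (centralizerIn_le _ _) fun t ht => ⟨ht,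
    Subgroup.mem_centralizer_iff.2 fun z hz => (Subgroup.mem_centralizer_iff.1 (hZc hz) t ht).symm⟩
  obtain ⟨C, hCs, hC⟩ : ∃ C : FusionSystem T, C.IsSaturated p ∧ ∀ P : Subgroup Ω, C.Hom P = E.centralizerHom Z P := by
    have key : ∀ (V : Subgroup Ω) (D : FusionSystem V), V = T → D.IsSaturated p →
        (∀ P : Subgroup Ω, D.Hom P = E.centralizerHom Z P) →
          ∃ C : FusionSystem T, C.IsSaturated p ∧ ∀ P : Subgroup Ω, C.Hom P = E.centralizerHom Z P := by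
      rintro V D rfl h1 h2
      exact ⟨D, h1, h2⟩
    refine key _ _ hcT (centralizerSystem_saturated hTp hEs ⟨hZT, fun X ⟨θ, hθ, hr⟩ => ?_⟩ (centSystem E hZT)
      (centSystem_spec E hZT)) (centSystem_spec E hZT)
    rw [← hr, (stronglyClosed_weaklyClosed hZE).2 θ hθ]
  have hw : C.IsWeaklyNormalIn F p := by
    refine ⟨hCs, hF, fun P φ hφ => hEF P ((hC P).le hφ).1, hT, fun P hP φ hφ α hα => ?_, fun P hP φ hφ => ?_⟩
    · obtain ⟨-, -, -, ψ, hψ, e1, e2⟩ := (hC P).le hφ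
      have hM : P ⊔ Z ≤ T := sup_le hP hZT
      obtain ⟨χ, hχ, hχe⟩ := hAI (P ⊔ Z) hM ψ hψ α hα
      set A := (P.subgroupOf T).map (T.subtype.comp α.toMonoidHom)
      have hαZ : ∀ z : T, (z : Ω) ∈ Z → ∃ w : T, (w : Ω) ∈ Z ∧ α w = z := fun z hz =>
        ⟨α⁻¹ z, stronglyClosed_apply_mem hZ ((equivHom_autGroup F hTS).1 (Subgroup.inv_mem _ hα)) z hz,
          MulAut.apply_inv_self _ _ _⟩
      have hle : A ⊔ Z ≤ ((P ⊔ Z).subgroupOf T).map (T.subtype.comp α.toMonoidHom) := by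
        refine sup_le ?_ fun z hz => ?_
        · rintro _ ⟨x, hx, rfl⟩
          exact ⟨x, Subgroup.mem_sup_left hx, rfl⟩
        · obtain ⟨w, hw, hwe⟩ := hαZ ⟨z, hZT hz⟩ hz
          exact ⟨w, Subgroup.mem_sup_right hw, congrArg Subtype.val hwe⟩
      have hAT : A ≤ T := by rintro _ ⟨x, -, rfl⟩; exact (α x).2
      refine ⟨χ.comp (Subgroup.inclusion (le_sup_left.trans hle)), (hC A).ge ⟨restrict_mem E hχ _, hcT.symm ▸ hAT,
        fun x => hcT.symm ▸ hom_apply_mem E hχ _, χ.comp (Subgroup.inclusion hle), restrict_mem E hχ hle,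
        fun x => rfl, fun z => ?_⟩, fun x hφx hαx => ?_⟩
      · obtain ⟨w, hw, hwe⟩ := hαZ ⟨(z : Ω), hZT z.2⟩ z.2
        have hwe' : ((α w : T) : Ω) = z := congrArg Subtype.val hwe
        have hψw : ψ ⟨(w : Ω), Subgroup.mem_sup_right hw⟩ = w := e2 ⟨w, hw⟩
        refine (apply_congr χ hwe'.symm _ (hle (Subgroup.mem_sup_right (hwe' ▸ z.2)))).trans ?_
        refine (hχe ⟨(w : Ω), Subgroup.mem_sup_right hw⟩ (hψw.symm ▸ w.2) _).trans ?_
        exact (congrArg (fun u : T => ((α u : T) : Ω)) (Subtype.ext hψw)).trans hwe'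
      · refine (hχe ⟨(x : Ω), Subgroup.mem_sup_left x.2⟩ ((e1 x).symm ▸ hφx) _).trans ?_
        exact congrArg (fun u : T => ((α u : T) : Ω)) (Subtype.ext (e1 x))
    · obtain ⟨α, hα, φ₀, hφ₀, he⟩ := hfr P hP φ hφ
      obtain ⟨ψ, hψ, e1, e2⟩ := isNormal_extend hnor hφ₀
      have hψZ := restrict_mem E hψ (le_sup_right : Z ≤ P ⊔ Z)
      obtain ⟨a, ha, hae⟩ := exists_aut_of_invariant E hψZ fun z => stronglyClosed_apply_mem hZE hψZ z z.2
      have hzfix : ∀ t ∈ T, ∀ z ∈ Z, t * z * t⁻¹ = z := fun t ht z hz => by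
        rw [Subgroup.mem_centralizer_iff.1 (hZc hz) t ht, mul_inv_cancel_right]
      obtain ⟨g, hg, hge⟩ := (fullyNormalized_receptive hTp hEs (fullyNormalized_of_stronglyClosed hZE)).2 Z _
        ((equivHom_autGroup E hZT).1 ha) (equivHom_range a)
      have hText : T ≤ extender T Z (equivHom a) := fun t ht => by
        refine Subgroup.subset_closure ⟨ht, stronglyClosed_le_normalizer hZE ht, 1, T.one_mem, fun x hx => ?_⟩
        rw [one_mul, inv_one, mul_one]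
        exact congrArg (fun u : Z => ((a u : Z) : Ω)) (Subtype.ext (hzfix t ht x x.2))
      obtain ⟨γ, hγ, hγe⟩ := exists_aut_of_invariant E (restrict_mem E hg hText) fun t =>
        hom_apply_mem E hg _
      have hγm := (equivHom_autGroup E le_rfl).1 (Subgroup.inv_mem _ hγ)
      obtain ⟨ψ₁, hψ₁, hψ₁e⟩ := comp_hom_mem E hψ hγm fun x => hom_apply_mem E hψ x
      have hPc : P ≤ centralizerIn T Z := hcT.symm ▸ hP
      refine ⟨α * γ, Subgroup.mul_mem _ hα (autGroup_mono hEF T hγ), ψ₁.comp (Subgroup.inclusion le_sup_left),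
        (hC P).ge ⟨restrict_mem E hψ₁ _, hPc, fun x => hcT.symm ▸ hom_apply_mem E hψ₁ _, ψ₁, hψ₁, fun x => rfl,
          fun z => ?_⟩, fun x hx => ?_⟩
      · refine (hψ₁e _).trans ?_
        have h1 : ((γ ⟨z, hZT z.2⟩ : T) : Ω) = ψ (Subgroup.inclusion le_sup_right z) :=
          (hγe _).trans ((hge z z.2 (hText (hZT z.2))).trans (hae z))
        show ((γ⁻¹ ⟨ψ _, _⟩ : T) : Ω) = z
        rw [show (⟨ψ (Subgroup.inclusion le_sup_right z), _⟩ : T) = γ ⟨z, hZT z.2⟩ from Subtype.ext h1.symm,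
          MulAut.inv_apply_self]
      · refine (he x (hom_apply_mem E hφ₀ x)).trans (congrArg (fun u : T => ((α u : T) : Ω)) ?_)
        have h2 : (⟨ψ₁.comp (Subgroup.inclusion le_sup_left) x, hx⟩ : T) = γ⁻¹ ⟨φ₀ x, hom_apply_mem E hφ₀ x⟩ :=
          Subtype.ext ((hψ₁e _).trans (congrArg (fun u : T => ((γ⁻¹ u : T) : Ω)) (Subtype.ext (e1 x x.2 _))))
        rw [h2]; exact (MulAut.apply_inv_self _ γ _).symm
  have hres := exists_pPrimeResidual hTp hCs
  refine ⟨_, pPrimeResidual_isNormalIn hS hw hres, central_of_fix hTp hres.1 hZT fun P φ hφ x hx => ?_⟩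
  obtain ⟨-, -, -, ψ, -, e1, e2⟩ := (hC P).le (hres.2.1.1 P hφ)
  exact (e1 x).symm.trans (e2 ⟨x, hx⟩)

/-- Two normal subsystems over commuting subgroups have a normal product. -/
theorem exists_normal_product (hS : IsPGroup p S) (hF : F.IsSaturated p) {E₁ : FusionSystem T₁}
    {E₂ : FusionSystem T₂} (h₁ : E₁.IsNormalIn F p) (h₂ : E₂.IsNormalIn F p) (hc : ⁅T₁, T₂⁆ = ⊥) :
    ∃ D : FusionSystem (T₁ ⊔ T₂), D.IsNormalIn F p ∧
      (T₁ ⊓ T₂ ≤ E₁.center → T₁ ⊓ T₂ ≤ E₂.center → IsCentralProductOf E₁ E₂ D) := by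
  have hc12 : T₁ ≤ Subgroup.centralizer (T₂ : Set Ω) := (Subgroup.commutator_eq_bot_iff_le_centralizer).1 hc
  have hc21 : T₂ ≤ Subgroup.centralizer (T₁ : Set Ω) := Subgroup.le_centralizer_iff.1 hc12
  by_cases hz : T₁ ⊓ T₂ ≤ E₁.center ∧ T₁ ⊓ T₂ ≤ E₂.center
  · obtain ⟨D, hD, hD'⟩ := exists_centralProduct hS hF h₁ h₂ hc21 hz.1 hz.2
    exact ⟨D, hD, fun _ _ => hD'⟩
  have hZ : F.StronglyClosed (T₁ ⊓ T₂) := stronglyClosed_inf h₁.1.2.2.2.1 h₂.1.2.2.2.1
  obtain ⟨D₁, hD₁, z₁⟩ := exists_normal_central hS h₁ hZ inf_le_left (inf_le_right.trans hc21)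
  obtain ⟨D₂, hD₂, z₂⟩ := exists_normal_central hS h₂ hZ inf_le_right (inf_le_left.trans hc12)
  obtain ⟨D, hD, -⟩ := exists_centralProduct hS hF hD₁ hD₂ hc21 (isCentral_le_center z₁) (isCentral_le_center z₂)
  exact ⟨D, hD, fun a b => absurd ⟨a, b⟩ hz⟩

end Cfsg.Agent.FusionComp
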