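import Cfsg.Agent.Lib.FusionMeet.Layer

/-!
# The layer of a normal subsystem is normal
-/

set_option autoImplicit false
set_option linter.unusedSectionVars false
set_option linter.style.haveILetI false

namespace Cfsg.Agent.FusionComp

open Cfsg Cfsg.FusionSystem Cfsg.Agent.FusionSys Cfsg.Agent.FusionSys.FocCent
  Cfsg.Agent.FusionSys.LayerCore Cfsg.Agent.FusionMeet

variable {Ω : Type*} [Group Ω] {S V W : Subgroup Ω} [Finite S] {p : ℕ} [hp : Fact p.Prime]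

/-- Automorphisms of a normal subsystem carry maps of its layer to maps of its layer. -/
theorem layer_transport (hS : IsPGroup p S) {F : FusionSystem S} {N : FusionSystem V} (hN : N.IsNormalIn F p)
    {L : FusionSystem W} (hL : L.IsLayerOf N p) {β : MulAut V} (hβ : β ∈ F.autGroup V) :
    (∀ x : V, (x : Ω) ∈ W → ((β x : V) : Ω) ∈ W) ∧
    ∀ (P : Subgroup Ω) (φ : P →* Ω), φ ∈ L.Hom P → ∀ (hPV : P ≤ V) (A : Subgroup Ω),
      (∀ a ∈ A, ∃ x : P, a = ((β ⟨x, hPV x.2⟩ : V) : Ω)) → ∃ χ ∈ L.Hom A,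
        ∀ (x : P) (h : ((β ⟨x, hPV x.2⟩ : V) : Ω) ∈ A) (hv : φ x ∈ V),
          χ ⟨_, h⟩ = ((β ⟨φ x, hv⟩ : V) : Ω) := by
  obtain ⟨hNs, -, -, hV, hAI, -⟩ := id hN.1
  haveI : Finite V := finite_of_le hV.1
  have hVp := hS.to_le hV.1
  have j := isFusIso_of_invariant hAI (Subgroup.inv_mem _ hβ)
  obtain ⟨W', L', hWV, hL', k⟩ := j.normal_push hNs hL.1
  have hLL' : L.IsSubsystemOf L' := by
    refine hL.2.2 _ _ hL' fun U C hC => ?_
    have hUV : U ≤ V := FusionMeet.subnormal_le hC.1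
    haveI : Finite U := finite_of_le hUV
    obtain ⟨U'', C'', hUV', hC'', l⟩ := subnormal_push hC.1 inferInstance hp hNs j.symm
    have hsub := hL.2.1 _ _ ⟨hC'', l.quasisimple hC.2⟩
    refine component_le_normal hVp hC hL' fun u hu => ?_
    have h1 : j.symmMap ⟨u, hUV' hu⟩ ∈ W := subsystem_le hsub (l.mem_range' ⟨u, hu⟩)
    have h2 := k.mem_range' ⟨_, h1⟩
    rwa [show (V.subtype.comp (β⁻¹).toMonoidHom).comp (Subgroup.inclusion hWV) ⟨_, h1⟩ = u from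
      j.apply_symmMap ⟨u, hUV' hu⟩] at h2
  have hWW' := subsystem_le hLL'
  have hpre : ∀ (x : V) (hx : (x : Ω) ∈ W), ∃ hb : ((β x : V) : Ω) ∈ W,
      (V.subtype.comp (β⁻¹).toMonoidHom).comp (Subgroup.inclusion hWV) ⟨_, hb⟩ = x := by
    intro x hx
    obtain ⟨w, hw⟩ := k.range.ge (hWW' hx)
    have h1 : β x = Subgroup.inclusion hWV w := by
      rw [← show β⁻¹ (Subgroup.inclusion hWV w) = x from Subtype.ext hw, MulAut.apply_inv_self]
    refine ⟨by rw [h1]; exact w.2, ?_⟩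
    show ((β⁻¹ (β x) : V) : Ω) = x
    rw [MulAut.inv_apply_self]
  refine ⟨fun x hx => (hpre x hx).1, fun P φ hφ hPV A hA => ?_⟩
  have hPW := hom_le L hφ
  set ι := (V.subtype.comp (β⁻¹).toMonoidHom).comp (Subgroup.inclusion hWV)
  have hA₀ : preimageAlong ι P ≤ W := preimageAlong_le_src ι P
  have himg : imageAlong ι (preimageAlong ι P) = P := IsFusIso.imageAlong_preimage k.range (hPW.trans hWW')
  obtain ⟨ψ, hψ, hψW, hψe⟩ := k.exists_pull hA₀ (restrict_mem L' (hLL' P hφ) himg.le)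
  have hle : A ≤ preimageAlong ι P := fun a ha => by
    obtain ⟨x, rfl⟩ := hA a ha
    obtain ⟨hb, he⟩ := hpre ⟨x, hPV x.2⟩ (hPW x.2)
    exact (mem_preimageAlong _ _ _).2 ⟨hb, he.symm ▸ x.2⟩
  refine ⟨_, restrict_mem L hψ hle, fun x h hv => ?_⟩
  obtain ⟨hb, he⟩ := hpre ⟨x, hPV x.2⟩ (hPW x.2)
  have hm : ι ⟨_, hA₀ (hle h)⟩ ∈ imageAlong ι (preimageAlong ι P) := imageAlong_mem (hle h)
  have h1 : φ x = ι ⟨ψ ⟨_, hle h⟩, hψW _⟩ :=
    (apply_congr φ he.symm x.2 (himg.le hm)).trans (hψe ⟨_, hle h⟩ hm)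
  show ψ ⟨_, hle h⟩ = _
  rw [show (⟨φ x, hv⟩ : V) = β⁻¹ (Subgroup.inclusion hWV ⟨ψ ⟨_, hle h⟩, hψW _⟩) from Subtype.ext h1,
    MulAut.apply_inv_self]
  rfl

/-- The layer of a normal subsystem is normal. -/
theorem layer_normal (hS : IsPGroup p S) {F : FusionSystem S} {N : FusionSystem V} (hN : N.IsNormalIn F p)
    {L : FusionSystem W} (hL : L.IsLayerOf N p) : L.IsNormalIn F p := by
  obtain ⟨hNs, hF, hNF, hV, -, hfr⟩ := id hN.1
  obtain ⟨hLs, -, hLN, hW, hAIL, hfrL⟩ := id hL.1.1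
  haveI : Finite V := finite_of_le hV.1
  haveI : Finite W := finite_of_le (S := V) hW.1
  have hVp := hS.to_le hV.1
  have hWV := hW.1
  have hWS := hWV.trans hV.1
  have hclosed : F.StronglyClosed W := ⟨hWS, fun R hR φ hφ x => by
    obtain ⟨β, hβ, φ₀, hφ₀, he⟩ := hfr R (hR.trans hWV) φ hφ
    have h0 : φ₀ x ∈ W := hW.2 R hR φ₀ hφ₀ x
    rw [he x (hWV h0)]
    exact (layer_transport hS hN hL hβ).1 _ h0⟩
  have hw : L.IsWeaklyNormalIn F p := by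
    refine ⟨hLs, hF, fun P φ hφ => hNF P (hLN P hφ), hclosed, fun P hP φ hφ α hα => ?_, fun P hP φ hφ => ?_⟩
    · obtain ⟨β, hβ, φ₀, hφ₀, he⟩ := hfr W hWV _ ((equivHom_autGroup F hWS).1 hα)
      obtain ⟨α₀, hα₀, hα₀e⟩ := exists_aut_of_invariant N hφ₀ fun w => hW.2 W le_rfl φ₀ hφ₀ w
      have hαe : ∀ w : W, ((α w : W) : Ω) = ((β ⟨(α₀ w : W), hWV (α₀ w).2⟩ : V) : Ω) := fun w =>
        (he w (hom_apply_mem N hφ₀ w)).trans
          (congrArg (fun z : V => ((β z : V) : Ω)) (Subtype.ext (hα₀e w).symm))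
      obtain ⟨χ₁, hχ₁, hχ₁e⟩ := hAIL P hP φ hφ α₀ hα₀
      have hP₁ : (P.subgroupOf W).map (W.subtype.comp α₀.toMonoidHom) ≤ V := (hom_le L hχ₁).trans hWV
      obtain ⟨χ, hχ, hχe⟩ := (layer_transport hS hN hL hβ).2 _ χ₁ hχ₁ hP₁
        ((P.subgroupOf W).map (W.subtype.comp α.toMonoidHom)) (by
          rintro _ ⟨w, hw, rfl⟩
          exact ⟨⟨(α₀ w : W), ⟨w, hw, rfl⟩⟩, hαe w⟩)
      refine ⟨χ, hχ, fun x hφx hαx => ?_⟩
      have h1 : ((α₀ ⟨x, hP x.2⟩ : W) : Ω) ∈ (P.subgroupOf W).map (W.subtype.comp α₀.toMonoidHom) :=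
        ⟨⟨x, hP x.2⟩, x.2, rfl⟩
      refine (apply_congr χ (hαe ⟨x, hP x.2⟩) hαx (hαe ⟨x, hP x.2⟩ ▸ hαx)).trans ?_
      refine (hχe ⟨_, h1⟩ _ (hWV (hom_apply_mem L hχ₁ _))).trans ?_
      rw [hαe ⟨φ x, hφx⟩]
      exact congrArg (fun z : V => ((β z : V) : Ω)) (Subtype.ext (hχ₁e x hφx h1))
    · obtain ⟨β, hβ, φ₀, hφ₀, he⟩ := hfr P (hP.trans hWV) φ hφ
      obtain ⟨γ, hγ, φ₁, hφ₁, he₁⟩ := hfrL P hP φ₀ hφ₀
      obtain ⟨β₁, hβ₁, hr⟩ := exists_rel F hWV hV.1 hβ (layer_transport hS hN hL hβ).1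
      refine ⟨β₁ * γ, Subgroup.mul_mem _ hβ₁ (autGroup_mono hNF W hγ), φ₁, hφ₁, fun x hx => ?_⟩
      refine (he x (hom_apply_mem N hφ₀ x)).trans ?_
      rw [MulAut.mul_apply, ← hr.apply]
      exact congrArg (fun z : V => ((β z : V) : Ω)) (Subtype.ext (he₁ x hx))
  obtain hres := exists_pPrimeResidual (hS.to_le hWS) hLs
  have hD := pPrimeResidual_isNormalIn hS hw hres
  have hDN := pPrimeResidual_isNormalIn hVp hL.1.1 hres
  have hLD := hL.2.2 _ _ hDN fun U C hC => component_le_normal hVp hC hDN (subsystem_le (hL.2.1 U C hC))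
  rwa [hom_ext L (pPrimeSys L p) fun P => Set.Subset.antisymm (hLD P) (hres.2.1.1 P)]

end Cfsg.Agent.FusionComp
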