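import Cfsg.Agent.Lib.FusionComp.Dichotomy
import Cfsg.Agent.Lib.FusionComp.LayerNormal

/-!
# Components are normal in the layer and in the generalized Fitting subsystem
-/

set_option autoImplicit false
set_option linter.unusedSectionVars false
set_option linter.style.haveILetI false

namespace Cfsg.Agent.FusionComp

open Cfsg Cfsg.FusionSystem Cfsg.Agent.FusionSys Cfsg.Agent.FusionSys.FocCent
  Cfsg.Agent.FusionSys.LayerCore Cfsg.Agent.FusionMeet Cfsg.Agent.FusionProd

variable {Ω : Type*} [Group Ω] {S T₁ T₂ U : Subgroup Ω} [Finite S] {p : ℕ} [hp : Fact p.Prime]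
variable {F : FusionSystem S} {E₁ : FusionSystem T₁} {E₂ : FusionSystem T₂}

omit hp in
/-- Normality only depends on the maps. -/
theorem normalIn_congr {A B : Subgroup Ω} {D : FusionSystem A} {D' : FusionSystem B} (h : D.IsSubsystemOf D')
    (h' : D'.IsSubsystemOf D) {X : FusionSystem U} (hX : X.IsNormalIn D p) : X.IsNormalIn D' p := by
  obtain rfl := le_antisymm (subsystem_le h) (subsystem_le h')
  rwa [← hom_ext D D' fun P => Set.Subset.antisymm (h P) (h' P)]

theorem prdSys_symm_sub (C : Prd p F E₁ E₂) : (prdSys C.symm).IsSubsystemOf (prdSys C) := fun P φ hφ => by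
  obtain ⟨P₁, P₂, φ₁, φ₂, h, χ, h1, h2, z1, z2, -, -, -, -, ha, hb, he⟩ := elim_pair C.symm hφ
  obtain ⟨χ', -, hχ', ha', hb'⟩ := pair_spec C (inf_comm T₁ T₂ ▸ z2) (inf_comm T₁ T₂ ▸ z1) h2 h1
  have hle : P₁ ⊔ P₂ ≤ P₂ ⊔ P₁ := (sup_comm P₁ P₂).le
  refine hom_congr _ (restrict_mem _ hχ' (h.trans hle)) fun x => (he x).trans ?_
  exact hom_ext_join (f := χ) (g := χ'.comp (Subgroup.inclusion hle))
    (fun a => (ha a).trans (hb' a).symm) (fun b => (hb b).trans (ha' b).symm) _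

/-- Maps of the product on subgroups of a factor are maps of the factor. -/
theorem mem_left_of_le (C : Prd p F E₁ E₂) {P : Subgroup Ω} (hP : P ≤ T₁) {φ : P →* Ω}
    (hφ : φ ∈ (prdSys C).Hom P) : φ ∈ E₁.Hom P := by
  obtain ⟨P₁, P₂, φ₁, φ₂, h, χ, h1, -, -, -, c1, -, -, -, ha, -, he⟩ := elim_pair C hφ
  have hle : P ≤ P₁ := (le_inf le_rfl hP).trans c1
  exact hom_congr E₁ (restrict_mem E₁ h1 hle) fun x => (he x).trans (ha (Subgroup.inclusion hle x))

/-- A normal subsystem of a factor is normal in the product. -/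
theorem normal_in_prd (C : Prd p F E₁ E₂) {X : FusionSystem U} (hX : X.IsNormalIn E₁ p) :
    X.IsNormalIn (prdSys C) p := by
  obtain ⟨⟨hXs, hEs, hXE, hU, hAI, hfr⟩, hext⟩ := hX
  have hUT := hU.1
  have hUU : U ≤ T₁ ⊔ T₂ := hUT.trans le_sup_left
  haveI : Finite T₁ := finite_of_le (S := S) C.cl₁.1
  haveI : Finite U := finite_of_le (S := T₁) hUT
  have hl := left_sub_prdSys C
  have haut : (prdSys C).autGroup U ≤ E₁.autGroup U := fun α hα =>
    (equivHom_autGroup E₁ hUT).2 (mem_left_of_le C hUT ((equivHom_autGroup _ hUU).1 hα))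
  refine ⟨⟨hXs, prdSys_saturated C, fun P φ hφ => hl P (hXE P hφ),
    ⟨hUU, fun R hR φ hφ x => hU.2 R hR φ (mem_left_of_le C (hR.trans hUT) hφ) x⟩,
    fun P hP φ hφ α hα => hAI P hP φ hφ α (haut hα), fun P hP φ hφ => ?_⟩, fun α hα => ?_⟩
  · obtain ⟨α, hα, φ₀, hφ₀, he⟩ := hfr P hP φ (mem_left_of_le C (hP.trans hUT) hφ)
    exact ⟨α, autGroup_mono hl U hα, φ₀, hφ₀, he⟩
  set A := U ⊔ centralizerIn T₁ U
  obtain ⟨β, hβ, e1, e2⟩ := hext α hα
  have hAT : A ≤ T₁ := sup_le hUT (centralizerIn_le _ _)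
  have hUc : T₂ ≤ Subgroup.centralizer (U : Set Ω) :=
    C.comm.trans (Subgroup.centralizer_le (SetLike.coe_subset_coe.2 hUT))
  have hzA : T₁ ⊓ T₂ ≤ A := fun z hz => Subgroup.mem_sup_right ⟨hz.1, hUc hz.2⟩
  obtain ⟨χ, -, hχ, ha, hb⟩ :=
    pair_spec C hzA inf_le_right ((equivHom_autGroup E₁ hAT).1 hβ) (subtype_mem E₂ (le_refl T₂))
  have hc : ∀ c ∈ centralizerIn (T₁ ⊔ T₂) U, ∃ a ∈ centralizerIn T₁ U, ∃ b ∈ T₂, c = a * b := fun c hc => by
    obtain ⟨a, ha', b, hb', rfl⟩ := C.exists_decomp le_rfl le_rfl hc.1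
    have := Subgroup.mul_mem _ hc.2 (Subgroup.inv_mem _ (hUc hb'))
    rw [mul_inv_cancel_right] at this
    exact ⟨a, ⟨ha', this⟩, b, hb', rfl⟩
  have hle : U ⊔ centralizerIn (T₁ ⊔ T₂) U ≤ A ⊔ T₂ := sup_le (le_sup_left.trans le_sup_left) fun c hc' => by
    obtain ⟨a, ha', b, hb', rfl⟩ := hc c hc'
    exact Subgroup.mul_mem _ (Subgroup.mem_sup_left (Subgroup.mem_sup_right ha')) (Subgroup.mem_sup_right hb')
  have hge : A ⊔ T₂ ≤ U ⊔ centralizerIn (T₁ ⊔ T₂) U := sup_le
    (sup_le_sup_left (inf_le_inf_right _ le_sup_left) _)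
    ((le_inf le_sup_right hUc).trans le_sup_right)
  haveI : Finite ↥(T₁ ⊔ T₂) := finite_of_le (S := S) C.le
  haveI : Finite ↥(U ⊔ centralizerIn (T₁ ⊔ T₂) U) :=
    finite_of_le (S := T₁ ⊔ T₂) (sup_le hUU (centralizerIn_le _ _))
  have hin : ∀ x : ↥(A ⊔ T₂), χ x ∈ U ⊔ centralizerIn (T₁ ⊔ T₂) U := apply_mem_of_sup χ
    (fun a => by rw [ha]; exact hge (Subgroup.mem_sup_left (β a).2))
    (fun b => by rw [hb]; exact hge (Subgroup.mem_sup_right b.2))
  obtain ⟨β', hβ', hβ'e⟩ := exists_aut_of_invariant (prdSys C) (restrict_mem _ hχ hle) fun x => hin _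
  refine ⟨β', hβ', fun x => ?_, fun c hc' => ?_⟩
  · refine (hβ'e _).trans ((ha (Subgroup.inclusion le_sup_left x)).trans ?_)
    exact e1 x
  · obtain ⟨a, ha', b, hb', e⟩ := hc c hc'
    have hca : a ∈ A := Subgroup.mem_sup_right ha'
    have h1 := e2 ⟨a, hca⟩ ha'
    have h2 : ((β' c : ↥(U ⊔ centralizerIn (T₁ ⊔ T₂) U)) : Ω) = ((β ⟨a, hca⟩ : A) : Ω) * b := by
      rw [hβ'e]
      refine Eq.trans ?_ (congrArg₂ (· * ·) (ha ⟨a, hca⟩) (hb ⟨b, hb'⟩))
      rw [← map_mul]
      exact congrArg χ (Subtype.ext e)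
    rw [h2, e, mul_inv_rev, mul_assoc, ← mul_assoc a⁻¹,
      Subgroup.mem_centralizer_iff.1 (hUc hb') _ h1.1, inv_mul_cancel_left]
    exact h1

theorem component_in_normal_aux {Ω : Type*} [Group Ω] {U : Subgroup Ω} {C : FusionSystem U}
    {S : Subgroup Ω} {F : FusionSystem S} {p : ℕ} (hsn : C.IsSubnormalIn F p) :
    Fact p.Prime → Finite S → IsPGroup p S → C.Quasisimple p → ∀ (R : Subgroup Ω) (M : FusionSystem R),
      M.IsNormalIn F p → U ≤ R → C.IsSubnormalIn M p := by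
  induction hsn with
  | refl G p =>
    intro _ _ hS hq R M hM hUR
    obtain rfl := le_antisymm hM.1.2.2.2.1.1 hUR
    rw [hom_ext M G fun P => Set.Subset.antisymm (hM.1.2.2.1 P) (quasisimple_le_normal hS hq hM P)]
    exact .refl G p
  | @step V S E D F p hED hDF ih =>
    intro _ _ hS hq R M hM hUR
    have hVS : V ≤ S := hDF.1.2.2.2.1.1
    haveI := finite_of_le hVS
    have hTV := FusionMeet.subnormal_le hED
    have P : Pair p F M D := ⟨hS, hM.1.2.1, hM, hDF⟩
    exact .step (ih inferInstance inferInstance (hS.to_le hVS) hq _ _ (meetSys_normal₂ P) (le_inf hUR hTV))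
      (meetSys_normal₁ P)

/-- A component is a component of every normal subsystem over a group containing its carrier. -/
theorem component_in_normal (hS : IsPGroup p S) {C : FusionSystem U} (hC : C.IsComponentIn F p) {R : Subgroup Ω}
    {M : FusionSystem R} (hM : M.IsNormalIn F p) (hUR : U ≤ R) : C.IsComponentIn M p :=
  ⟨component_in_normal_aux hC.1 hp inferInstance hS hC.2 R M hM hUR, hC.2⟩

/-- A subnormal subsystem is the whole system or lies subnormally in a proper normal subsystem. -/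
theorem subnormal_proper {Ω : Type*} [Group Ω] {U : Subgroup Ω} {C : FusionSystem U}
    {S : Subgroup Ω} {F : FusionSystem S} {p : ℕ} (h : C.IsSubnormalIn F p) :
    (F.IsSubsystemOf C ∧ C.IsSubsystemOf F) ∨ ∃ (V : Subgroup Ω) (N : FusionSystem V),
      N.IsNormalIn F p ∧ C.IsSubnormalIn N p ∧ ¬ F.IsSubsystemOf N := by
  induction h with
  | refl G p => exact Or.inl ⟨fun _ _ h => h, fun _ _ h => h⟩
  | @step V S E D F p hED hDF ih =>
    by_cases h : F.IsSubsystemOf D
    · rcases ih with ⟨h1, h2⟩ | ⟨V', N, hN, hCN, hne⟩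
      · exact Or.inl ⟨fun P φ hφ => h1 P (h P hφ), fun P φ hφ => hDF.1.2.2.1 P (h2 P hφ)⟩
      · exact Or.inr ⟨V', N, normalIn_congr hDF.1.2.2.1 h hN, hCN, fun h' => hne fun P φ hφ =>
          h' P (hDF.1.2.2.1 P hφ)⟩
    · exact Or.inr ⟨V, D, hDF, hED, h⟩

theorem allMaps_lt {R : Subgroup Ω} {M : FusionSystem R} (hM : M.IsSubsystemOf F) (h : ¬ F.IsSubsystemOf M) :
    (allMaps M).ncard < (allMaps F).ncard :=
  Set.ncard_lt_ncard ((Set.ssubset_iff_subset_ne).2 ⟨fun z hz => hM z.1 hz,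
    fun he => h fun P φ hφ => he.ge (show (⟨P, φ⟩ : Σ P : Subgroup Ω, ↥P →* Ω) ∈ allMaps F from hφ)⟩)
    (allMaps_finite F)

/-- Components are normal in the layer. -/
theorem component_normal_layer (n : ℕ) : ∀ {S : Subgroup Ω} [Finite S] {F : FusionSystem S},
    IsPGroup p S → F.IsSaturated p → (allMaps F).ncard = n → ∀ {U : Subgroup Ω} {C : FusionSystem U},
      C.IsComponentIn F p → ∀ {T : Subgroup Ω} {E : FusionSystem T}, E.IsLayerOf F p → C.IsNormalIn E p := by
  induction n using Nat.strong_induction_on with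
  | _ n ih =>
  intro S _ F hS hF hn U C hC T E hE
  have hEF : E.IsSubsystemOf F := hE.1.1.2.2.1
  have hUT : ∀ {U' : Subgroup Ω} {C' : FusionSystem U'}, C'.IsComponentIn F p → U' ≤ T := fun h =>
    subsystem_le (hE.2.1 _ _ h)
  have hTS : T ≤ S := hE.1.1.2.2.2.1.1
  haveI : Finite T := finite_of_le hTS
  by_cases hEtop : F.IsSubsystemOf E
  · rcases subnormal_proper hC.1 with ⟨h1, h2⟩ | ⟨V, N, hN, hCN, hne⟩
    · haveI : Finite U := finite_of_le (FusionMeet.subnormal_le hC.1)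
      exact normalIn_congr (fun P φ hφ => hEtop P (h2 P hφ)) (fun P φ hφ => h1 P (hEF P hφ))
        (FusionMeet.normal_self (hS.to_le (FusionMeet.subnormal_le hC.1)) hC.2.1)
    have hVS : V ≤ S := hN.1.2.2.2.1.1
    haveI : Finite V := finite_of_le hVS
    obtain ⟨W, L, hL⟩ := exists_layer (hS.to_le hVS) hN.1.1
    have hCL := ih _ (hn ▸ allMaps_lt hN.1.2.2.1 hne) (hS.to_le hVS) hN.1.1 rfl ⟨hCN, hC.2⟩ hL
    have hLn := layer_normal hS hN hL
    obtain ⟨M, hM, hMc⟩ := CentSub.exists_centralizer_subsystem hS hF hLn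
    have hWS := hLn.1.2.2.2.1.1
    haveI : Finite W := finite_of_le (S := S) hWS
    haveI : Finite (goodSub F L) := finite_of_le (S := S) hM.1.2.2.2.1.1
    have P : Prd p F L M := by
      refine ⟨hS, hF, hLn, hM, fun y hy => (goodSub_le F L hy).2, ?_, ?_⟩
      · refine isCentral_le_center (central_of_fix (hS.to_le hWS) hLn.1.1 inf_le_left fun Q φ hφ x hx => ?_)
        obtain ⟨-, -, -, ψ, -, a1, a2⟩ := (good_of_mem hS hF hLn hx.2).2 Q hφ
        exact (a1 x).symm.trans (a2 ⟨x, Subgroup.mem_zpowers _⟩)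
      · refine isCentral_le_center (central_of_fix (hS.to_le hM.1.2.2.2.1.1) hM.1.1 inf_le_right
          fun Q φ hφ x hx => ?_)
        obtain ⟨-, -, -, ψ, -, a1, a2⟩ := hMc Q hφ
        exact (a1 x).symm.trans (a2 ⟨x, hx.1⟩)
    have hFP : F.IsSubsystemOf (prdSys P) := fun Q φ hφ =>
      hE.2.2 _ _ (prdSys_normal P) (fun U' C' hC' => component_le_normal hS hC' (prdSys_normal P) (by
        by_cases h : U' ≤ W
        · exact h.trans le_sup_left
        · exact (component_le_goodSub hS hF hC' hLn h).trans le_sup_right)) Q (hEtop Q hφ)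
    exact normalIn_congr (fun Q φ hφ => hEtop Q (prdSys_sub P Q hφ)) (fun Q φ hφ => hFP Q (hEF Q hφ))
      (normal_in_prd P hCL)
  · have hTp := hS.to_le hTS
    obtain ⟨W, L, hL⟩ := exists_layer hTp hE.1.1.1
    have hcomp : ∀ {U' : Subgroup Ω} {C' : FusionSystem U'}, C'.IsComponentIn F p → C'.IsComponentIn E p :=
      fun h => component_in_normal hS h hE.1 (hUT h)
    have hCL := ih _ (hn ▸ allMaps_lt hEF hEtop) hTp hE.1.1.1 rfl (hcomp hC) hL
    exact normalIn_congr hL.1.1.2.2.1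
      (hE.2.2 _ _ (layer_normal hS hE.1 hL) fun U' C' h => hL.2.1 _ _ (hcomp h)) hCL

/-- Components are normal in the generalized Fitting subsystem. -/
theorem component_normal_fitting (hS : IsPGroup p S) (hF : F.IsSaturated p) {C : FusionSystem U}
    (hC : C.IsComponentIn F p) {R : Subgroup Ω} {D : FusionSystem R} (hD : D.IsGeneralizedFittingOf F p) :
    C.IsNormalIn D p := by
  obtain ⟨T, E, hE, hprod⟩ := hD
  have P := fitting_pair hS hF hE
  obtain ⟨rfl, he⟩ := eq_prdSys P hprod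
  rw [hom_ext D (prdSys P) he]
  exact normalIn_congr (prdSys_symm_sub P) (prdSys_symm_sub P.symm)
    (normal_in_prd P.symm (component_normal_layer _ hS hF rfl hC hE))

end Cfsg.Agent.FusionComp
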