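import Cfsg.Agent.Lib.FusionComp.FactorImage
import Cfsg.Agent.Lib.FusionComp.Centralized
import Cfsg.Agent.Lib.FusionProduct.Fitting
import Cfsg.Agent.Lib.Fusion.CentralizerSubsystem

/-!
# A component lies in a normal subsystem or centralizes it
-/

set_option autoImplicit false
set_option linter.unusedSectionVars false
set_option linter.style.haveILetI false

namespace Cfsg.Agent.FusionComp

open Cfsg Cfsg.FusionSystem Cfsg.Agent.FusionSys Cfsg.Agent.FusionSys.FocCent
  Cfsg.Agent.FusionSys.LayerCore Cfsg.Agent.FusionMeet Cfsg.Agent.FusionProd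

variable {Ω : Type*} [Group Ω] {S R : Subgroup Ω} [Finite S] {p : ℕ} [hp : Fact p.Prime]

/-- Maps fix the elements of a central subgroup. -/
theorem central_fix {F : FusionSystem S} {Z : Subgroup Ω} (hZ : F.IsCentral Z) {P : Subgroup Ω} {φ : P →* Ω}
    (hφ : φ ∈ F.Hom P) (x : P) (hx : (x : Ω) ∈ Z) : φ x = x := by
  obtain ⟨ψ, -, h1, h2⟩ := isCentral_extend hZ hφ
  exact (h1 x x.2 (Subgroup.mem_sup_left x.2)).symm.trans (h2 x _ hx)

/-- A subgroup fixed by every map is central. -/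
theorem central_of_fix (hS : IsPGroup p S) {F : FusionSystem S} (hF : F.IsSaturated p) {Q : Subgroup Ω}
    (hQS : Q ≤ S) (h : ∀ (P : Subgroup Ω) (φ : P →* Ω), φ ∈ F.Hom P → ∀ x : P, (x : Ω) ∈ Q → φ x = x) :
    F.IsCentral Q :=
  (isCentral_iff hS hF Q).2 ⟨hQS, fun x hx y hy => by
    obtain ⟨φ, hφ, rfl⟩ := hy
    exact h _ φ hφ ⟨x, Subgroup.mem_zpowers x⟩ hx⟩

/-- A proper normal subsystem of a quasisimple system lies over a central subgroup. -/
theorem normal_le_center_of_quasisimple (hS : IsPGroup p S) {F : FusionSystem S} (hq : F.Quasisimple p)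
    {M : FusionSystem R} (hM : M.IsNormalIn F p) (hRS : R ≠ S) : R ≤ F.center := by
  obtain ⟨hF, hhyp, hsimp⟩ := id hq
  obtain ⟨hMs, -, hMF, hR, -, -⟩ := id hM.1
  haveI : Finite R := finite_of_le (S := S) hR.1
  have hZ := center_isCentral F
  set Z := F.center
  have hZS : Z ≤ S := hZ.1
  haveI : Finite Z := finite_of_le (S := S) hZS
  have hRp := hS.to_le hR.1
  have hcS : Z ≤ Subgroup.centralizer (S : Set Ω) := F.center_le_centralizer
  have hin := inner_isNormalIn_of_central hS hF hZ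
  have C : Prd p F M (innerFusionSystem Z) := ⟨hS, hF, hM, hin,
    hcS.trans (Subgroup.centralizer_le (SetLike.coe_subset_coe.2 hR.1)),
    isCentral_le_center (central_of_fix hRp hMs inf_le_left fun P φ hφ x hx => central_fix hZ (hMF P hφ) x hx.2),
    isCentral_le_center (central_of_fix (hS.to_le hZS) hin.1.1 inf_le_right
      fun P φ hφ x hx => central_fix hZ (hin.1.2.2.1 P hφ) x hx.2)⟩
  set π := QuotientGroup.mk' (Z.subgroupOf S)
  have hker : ∀ s : S, π s = 1 ↔ (s : Ω) ∈ Z := fun s =>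
    (QuotientGroup.eq_one_iff s).trans Subgroup.mem_subgroupOf
  have hran : π.range = ⊤ := MonoidHom.range_eq_top.2 (QuotientGroup.mk'_surjective _)
  have hZc : F.StronglyClosed Z := center_stronglyClosed F
  have hspec := factorSystem_spec F hZc π hker hran
  have hE := hsimp _ hspec
  have hQp : IsPGroup p (⊤ : Subgroup (S ⧸ Z.subgroupOf S)) := (hS.to_quotient _).to_subgroup _
  haveI : Finite (⊤ : Subgroup (S ⧸ Z.subgroupOf S)) := inferInstance
  obtain ⟨G', hG'⟩ := exists_image_weaklyNormal hS hZc hspec hE.1 (prdSys_normal C).1 le_sup_right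
  haveI : Finite (imageAlong π (R ⊔ Z)) := finite_of_le hG'.2.2.2.1.1
  have hn := pPrimeResidual_isNormalIn hQp hG' (exists_pPrimeResidual (hQp.to_le hG'.2.2.2.1.1) hG'.1)
  have hUS : R ⊔ Z ≤ S := sup_le hR.1 hZS
  rcases hE.2.2 _ _ hn with hbot | ⟨htop, -⟩
  · intro x hx
    refine (hker ⟨x, hR.1 hx⟩).1 (Subgroup.mem_bot.1 ?_)
    rw [← hbot]
    exact mem_imageAlong.2 ⟨x, hR.1 hx, Subgroup.mem_sup_left hx, rfl⟩
  exfalso
  have hSU : S ≤ R ⊔ Z := fun s hs => by
    obtain ⟨x, h, hx, he⟩ := mem_imageAlong.1 (htop.ge (Subgroup.mem_top (π ⟨s, hs⟩)))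
    have h1 : π (⟨x, h⟩⁻¹ * ⟨s, hs⟩) = 1 := by rw [map_mul, map_inv, he, inv_mul_cancel]
    have h2 := Subgroup.mul_mem (R ⊔ Z) hx (Subgroup.mem_sup_right ((hker _).1 h1))
    simpa using h2
  refine hRS (le_antisymm hR.1 (hhyp.ge.trans ?_))
  -- the whole system is the product with the centre
  have hle : F.IsSubsystemOf (prdSys C) := by
    have key : ∀ (U : Subgroup Ω) (D : FusionSystem U), U = S → D.IsNormalIn F p → F.IsSubsystemOf D := by
      rintro U D rfl hD
      exact quasisimple_le_normal hS hq hD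
    exact key _ _ (le_antisymm hUS hSU) (prdSys_normal C)
  refine (Subgroup.closure_le _).2 ?_
  rintro _ ⟨P, α, x, hP, -, rfl⟩
  obtain ⟨P₁, P₂, φ₁, φ₂, h1, h2, -, -, -, -, hd⟩ :=
    elim_spec C (hle P ((equivHom_autGroup F hP).1 α.2))
  obtain ⟨a, b, e, he⟩ := hd x x.2
  have hbZ : (b : Ω) ∈ Z := hom_le _ h2 b.2
  rw [central_fix hZ (hin.1.2.2.1 P₂ h2) b hbZ] at he
  have he' : (((α : MulAut P) x : P) : Ω) = φ₁ a * b := he
  have hφa : φ₁ a ∈ R := hom_apply_mem M h1 a
  have hm : (a : Ω)⁻¹ * φ₁ a ∈ R := R.mul_mem (R.inv_mem (hom_le M h1 a.2)) hφa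
  show (x : Ω)⁻¹ * (((α : MulAut P) x : P) : Ω) ∈ R
  rw [he', e, mul_inv_rev, mul_assoc, ← mul_assoc (a : Ω)⁻¹,
    Subgroup.mem_centralizer_iff.1 (hcS hbZ) _ (hR.1 hm), inv_mul_cancel_left]
  exact hm

theorem component_le_goodSub_aux {Ω : Type*} [Group Ω] {U : Subgroup Ω} {C : FusionSystem U}
    {S : Subgroup Ω} {F : FusionSystem S} {p : ℕ} (hsn : C.IsSubnormalIn F p) :
    Fact p.Prime → Finite S → IsPGroup p S → F.IsSaturated p → C.Quasisimple p →
      ∀ (R : Subgroup Ω) (M : FusionSystem R), M.IsNormalIn F p → ¬ U ≤ R → U ≤ goodSub F M := by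
  induction hsn with
  | refl G p =>
    intro _ _ hS hG hq R M hM hUR
    obtain ⟨hMs, -, hMG, hR, -, -⟩ := id hM.1
    have hZ := center_isCentral G
    have hRZ := normal_le_center_of_quasisimple hS hq hM fun h => hUR h.ge
    have hY : U ≤ centralizerIn U R := fun y hy => ⟨hy, Subgroup.mem_centralizer_iff.2 fun r hr =>
      (Subgroup.mem_centralizer_iff.1 (G.center_le_centralizer (hRZ hr)) y hy).symm⟩
    refine fun y hy => Subgroup.subset_closure (good_of_le hY (fun P φ hφ => ?_) hy)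
    have hPR := hom_le M hφ
    have hPS := hPR.trans hR.1
    have hid : ∀ x : P, φ x = x := fun x => central_fix hZ (hMG P hφ) x (hRZ (hPR x.2))
    have hPc : ∀ x ∈ P, x ∈ centralizerIn U U := fun x hx => ⟨hPS hx, G.center_le_centralizer (hRZ (hPR hx))⟩
    exact ⟨hMG P hφ, hPc, fun x => by rw [hid]; exact hPc x x.2, (P ⊔ U).subtype,
      subtype_mem G (sup_le hPS le_rfl), fun x => (hid x).symm, fun _ => rfl⟩
  | @step V S C D F p hCD hDF ih =>
    intro _ _ hS hF hq R M hM hUR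
    have hVS : V ≤ S := hDF.1.2.2.2.1.1
    haveI : Finite V := finite_of_le hVS
    have hUV := FusionMeet.subnormal_le hCD
    have P : Pair p F M D := ⟨hS, hF, hM, hDF⟩
    have hih := ih inferInstance inferInstance (hS.to_le hVS) hDF.1.1 hq _ _ (meetSys_normal₂ P)
      fun h => hUR (h.trans inf_le_left)
    obtain ⟨Cn, hCn, hCnc⟩ := CentSub.exists_centralizer_subsystem hS hF (meetSys_normal P)
    have hDY : U ≤ goodSub F (meetSys P) := hih.trans <| (Subgroup.closure_le _).2 fun y hy => by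
      have hYS : centralizerIn V (R ⊓ V) ≤ centralizerIn S (R ⊓ V) := inf_le_inf_right _ hVS
      refine Subgroup.subset_closure ⟨hYS hy.1, fun Q φ hφ => ?_⟩
      obtain ⟨h0, h1, h2, ψ, hψ, e1, e2⟩ := hy.2 Q hφ
      have hmono : centralizerIn V (Subgroup.zpowers y) ≤ centralizerIn S (Subgroup.zpowers y) :=
        inf_le_inf_right _ hVS
      exact ⟨hDF.1.2.2.1 Q h0, h1.trans hmono, fun x => hmono (h2 x), ψ, hDF.1.2.2.1 _ hψ, e1, e2⟩
    have P₁ : Pair p F Cn D := ⟨hS, hF, hCn, hDF⟩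
    have hG := meetSys_normal P₁
    have hsub : C.IsSubsystemOf (meetSys P₁) :=
      component_le_normal hS ⟨.step hCD hDF, hq⟩ hG (le_inf hDY hUV)
    have hGS := hG.1.2.2.2.1.1
    haveI : Finite ↥(goodSub F (meetSys P) ⊓ V) := finite_of_le (S := S) hGS
    have hcent : (meetSys P₁).IsCentral (R ⊓ (goodSub F (meetSys P) ⊓ V)) :=
      central_of_fix (hS.to_le hGS) hG.1.1 inf_le_right fun Q φ hφ x hx => by
        obtain ⟨-, -, -, ψ, -, e1, e2⟩ := hCnc Q (meetSys_sub₁ P₁ Q hφ)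
        exact (e1 x).symm.trans (e2 ⟨x, hx.1, hx.2.2⟩)
    calc U = C.hyperfocalSubgroup p := hq.2.1.symm
      _ ≤ (meetSys P₁).hyperfocalSubgroup p := hyperfocal_sub_mono hsub
      _ ≤ goodSub F M := hyperfocal_le_goodSub hS hF hM hG hcent

/-- A component lies over the carrier of a normal subsystem or centralizes it. -/
theorem component_le_goodSub (hS : IsPGroup p S) {F : FusionSystem S} (hF : F.IsSaturated p) {U : Subgroup Ω}
    {C : FusionSystem U} (hC : C.IsComponentIn F p) {M : FusionSystem R} (hM : M.IsNormalIn F p)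
    (hUR : ¬ U ≤ R) : U ≤ goodSub F M :=
  component_le_goodSub_aux hC.1 hp inferInstance hS hF hC.2 R M hM hUR

end Cfsg.Agent.FusionComp
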