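import Cfsg.Agent.Lib.Fusion.FactorMorphism
import Cfsg.Agent.Lib.Fusion.SurjectiveSaturated
import Cfsg.Agent.Lib.Fusion.FocCentralizer
import Cfsg.Agent.Lib.Fusion.CentralizerNormal

/-!
# The image of a weakly normal subsystem in a factor system
-/

set_option autoImplicit false
set_option linter.unusedSectionVars false
set_option linter.style.haveILetI false

namespace Cfsg.Agent.FusionComp

open Cfsg Cfsg.FusionSystem Cfsg.Agent.FusionSys Cfsg.Agent.FusionSys.FocCent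
  Cfsg.Agent.FusionSys.LayerCore

variable {Ω Ω' : Type*} [Group Ω] [Group Ω'] {S U Z : Subgroup Ω} {S' : Subgroup Ω'}
  [Finite S] [Finite S'] {p : ℕ} [hp : Fact p.Prime]

/-- The image of a weakly normal subsystem over a subgroup containing the kernel is weakly normal. -/
theorem exists_image_weaklyNormal (hS : IsPGroup p S) {F : FusionSystem S} (hZ : F.StronglyClosed Z)
    {θ : S →* Ω'} {E : FusionSystem S'} (hE : F.IsFactorSystem Z θ E) (hEs : E.IsSaturated p)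
    {G : FusionSystem U} (hG : G.IsWeaklyNormalIn F p) (hZU : Z ≤ U) :
    ∃ G' : FusionSystem (imageAlong θ U), G'.IsWeaklyNormalIn E p := by
  obtain ⟨hGs, hF, hGF, hU, hAI, hfr⟩ := hG
  have hUS := hU.1
  haveI : Finite U := finite_of_le hUS
  have hUp := hS.to_le hUS
  have hker := hE.2.1
  have hran := hE.2.2.1
  set θU : U →* Ω' := θ.comp (Subgroup.inclusion hUS)
  have hZG : G.StronglyClosed Z := ⟨hZU, fun R hR φ hφ x => hZ.2 R hR φ (hGF R hφ) x⟩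
  set V := imageAlong θ U
  have hranU : θU.range = V := by
    ext y
    constructor
    · rintro ⟨x, rfl⟩
      exact mem_imageAlong.2 ⟨x, hUS x.2, x.2, rfl⟩
    · intro hy
      obtain ⟨x, h, hx, rfl⟩ := mem_imageAlong.1 hy
      exact ⟨⟨x, hx⟩, rfl⟩
  have hkerU : ∀ u : U, θU u = 1 ↔ (u : Ω) ∈ Z := fun u => hker _
  set G' := factorSystem G hZG θU hkerU hranU
  have hspec := factorSystem_spec G hZG θU hkerU hranU
  have hG's : G'.IsSaturated p :=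
    saturated_of_surjectiveMorphism hUp hGs (factor_surjectiveMorphism hUp hGs hZG hspec)
  have hVS : V ≤ S' := fun y hy => by
    obtain ⟨x, h, -, rfl⟩ := mem_imageAlong.1 hy
    exact hran.le ⟨_, rfl⟩
  haveI : Finite V := finite_of_le hVS
  -- elements over `V` lie in `U`
  have hback : ∀ (s : S), θ s ∈ V → (s : Ω) ∈ U := fun s hs => by
    obtain ⟨x, h, hx, he⟩ := mem_imageAlong.1 hs
    have h1 : θ (⟨x, h⟩⁻¹ * s) = 1 := by rw [map_mul, map_inv, he, inv_mul_cancel]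
    have h2 := U.mul_mem hx (hZU ((hker _).1 h1))
    simpa using h2
  have hcl : E.StronglyClosed V := ⟨hVS, fun R' hR' φ' hφ' y => by
    obtain ⟨-, φ, hφ, hPS, hφS, hm, he⟩ := (hE.2.2.2 R' φ').1 hφ'
    obtain ⟨y, hy⟩ := y
    obtain ⟨s, rfl⟩ := hran.ge (hVS (hR' hy))
    have hsP : (s : Ω) ∈ preimageAlong θ R' := (mem_preimageAlong _ _ _).2 ⟨s.2, hy⟩
    have h1 : (φ ⟨s, hsP⟩ : Ω) ∈ U := stronglyClosed_apply_mem hU hφ ⟨s, hsP⟩ (hback s (hR' hy))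
    have h2 := he ⟨s, hsP⟩
    rw [show φ' ⟨θ s, hy⟩ = _ from h2]
    exact mem_imageAlong.2 ⟨_, _, h1, rfl⟩⟩
  refine ⟨G', hG's, hEs, ?_, hcl, ?_, ?_⟩
  · intro P' φ' hφ'
    obtain ⟨hP', φ, hφ, hPU, hφU, hm, he⟩ := (hspec.2.2.2 P' φ').1 hφ'
    obtain ⟨ψ', hψ', hPS, hφS, hm', he'⟩ := exists_induced hS hF hZ hE (hGF _ hφ)
    have hle : P' ≤ imageAlong θ (preimageAlong θU P') := fun y hy => by
      obtain ⟨x, rfl⟩ := hranU.ge (hP' hy)
      exact mem_imageAlong.2 ⟨x, hUS x.2, (mem_preimageAlong _ _ _).2 ⟨x.2, hy⟩, rfl⟩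
    refine hom_congr E (restrict_mem E hψ' hle) ?_
    rintro ⟨y, hy⟩
    obtain ⟨x, rfl⟩ := hranU.ge (hP' hy)
    have hx : (x : Ω) ∈ preimageAlong θU P' := (mem_preimageAlong _ _ _).2 ⟨x.2, hy⟩
    exact (he ⟨x, hx⟩).trans (he' ⟨x, hx⟩).symm
  · intro P' hP' φ' hφ' α' hα'
    obtain ⟨-, φ, hφ, hPU, hφU, hm, he⟩ := (hspec.2.2.2 P' φ').1 hφ'
    obtain ⟨-, f, hf, hQS, hfS, hfm, hfe⟩ := (hE.2.2.2 _ _).1 ((mem_autGroup_iff E hVS α').1 hα')
    have hUQ : U ≤ preimageAlong θ V := fun u hu =>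
      (mem_preimageAlong _ _ _).2 ⟨hUS hu, mem_imageAlong.2 ⟨u, hUS hu, hu, rfl⟩⟩
    have hfU := restrict_mem F hf hUQ
    obtain ⟨α, hα, hαe⟩ := exists_aut_of_invariant F hfU fun u => stronglyClosed_apply_mem hU hfU u u.2
    have hαθ : ∀ u : U, ((α' ⟨θU u, hfm ⟨u, hUQ u.2⟩⟩ : V) : Ω') = θU (α u) := fun u =>
      (hfe ⟨u, hUQ u.2⟩).trans (congrArg θ (Subtype.ext (hαe u).symm))
    set A := ((preimageAlong θU P').subgroupOf U).map (U.subtype.comp α.toMonoidHom)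
    obtain ⟨χ, hχ, hχe⟩ := hAI _ hPU φ hφ α hα
    obtain ⟨χ', hχ', hAU, hχU, hχm, hχ'e⟩ := exists_induced hUp hGs hZG hspec hχ
    have hle : (P'.subgroupOf V).map (V.subtype.comp α'.toMonoidHom) ≤ imageAlong θU A := by
      rintro _ ⟨⟨y, hyV⟩, hy, rfl⟩
      obtain ⟨x, rfl⟩ := hranU.ge hyV
      refine mem_imageAlong.2 ⟨(α x : U), (α x).2, ⟨x, (mem_preimageAlong _ _ _).2 ⟨x.2, hy⟩, rfl⟩, ?_⟩
      exact (hαθ x).symm
    refine ⟨_, restrict_mem G' hχ' hle, fun y hφy hαy => ?_⟩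
    obtain ⟨y, hy⟩ := y
    obtain ⟨x, rfl⟩ := hranU.ge (hP' hy)
    have hx : (x : Ω) ∈ preimageAlong θU P' := (mem_preimageAlong _ _ _).2 ⟨x.2, hy⟩
    have hαx : ((α x : U) : Ω) ∈ A := ⟨x, hx, rfl⟩
    refine (apply_congr χ' (hαθ x) _ (hχm ⟨_, hαx⟩)).trans ((hχ'e ⟨_, hαx⟩).trans ?_)
    refine Eq.trans ?_ ((hαθ ⟨φ ⟨x, hx⟩, hφU _⟩).symm.trans ?_)
    · exact congrArg θU (Subtype.ext (hχe ⟨x, hx⟩ (hφU _) hαx))
    · exact congrArg (fun z : V => ((α' z : V) : Ω')) (Subtype.ext (he ⟨x, hx⟩).symm)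
  · intro P' hP' φ' hφ'
    obtain ⟨-, φ, hφ, hPS, hφS, hm, he⟩ := (hE.2.2.2 P' φ').1 hφ'
    have hPU : preimageAlong θ P' ≤ U := fun x hx => by
      obtain ⟨h, hx'⟩ := (mem_preimageAlong _ _ _).1 hx
      exact hback ⟨x, h⟩ (hP' hx')
    obtain ⟨α, hα, φ₀, hφ₀, hφe⟩ := hfr _ hPU φ hφ
    obtain ⟨a, ha, hUS', haS, ham, hae⟩ := exists_induced hS hF hZ hE ((mem_autGroup_iff F hUS α).1 hα)
    have hav : ∀ y : V, a y ∈ V := fun y => stronglyClosed_apply_mem hcl ha y y.2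
    obtain ⟨α', hα', hα'e⟩ := exists_aut_of_invariant E ha hav
    obtain ⟨φ₀', hφ₀', hPU', hφ₀U, hm₀, hφ₀e⟩ := exists_induced hUp hGs hZG hspec hφ₀
    have hle : P' ≤ imageAlong θU (preimageAlong θ P') := fun y hy => by
      obtain ⟨x, rfl⟩ := hranU.ge (hP' hy)
      exact mem_imageAlong.2 ⟨x, x.2, (mem_preimageAlong _ _ _).2 ⟨hUS x.2, hy⟩, rfl⟩
    refine ⟨α', hα', _, restrict_mem G' hφ₀' hle, fun y hy₀ => ?_⟩
    obtain ⟨y, hy⟩ := y
    obtain ⟨x, rfl⟩ := hranU.ge (hP' hy)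
    have hx : (x : Ω) ∈ preimageAlong θ P' := (mem_preimageAlong _ _ _).2 ⟨hUS x.2, hy⟩
    refine (he ⟨x, hx⟩).trans ?_
    rw [hα'e]
    refine Eq.trans ?_ (apply_congr a (hφ₀e ⟨x, hx⟩).symm (ham ⟨_, hφ₀U _⟩) hy₀)
    refine Eq.trans ?_ (hae ⟨_, hφ₀U _⟩).symm
    exact congrArg θ (Subtype.ext (hφe ⟨x, hx⟩ (hφ₀U _)))

end Cfsg.Agent.FusionComp
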